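import Cfsg.Agent.R2.Spec.IIA.Main

/-!
# Packet EXO-DA (S3435) (helper4)

`exo_da` : the exotic family `ExoDA` does not occur.
-/

set_option autoImplicit false

namespace Cfsg.Agent.R2.Spec.IIA

open Cfsg Cfsg.Agent.H426.LieFam Cfsg.Agent.R2.Spec Cfsg.Agent.R2.Spec.P1 Cfsg.Agent.R2.Spec.F1
open Cfsg.Agent.R2.Spec.E Cfsg.Agent.R2.Spec.X7 Cfsg.Agent.R2.Spec.AA Cfsg.Agent.H420.QR

universe u w

theorem c9_64 : ∀ k < 8, (9 : ZMod 64) ^ k + 7 = 0 → k = 7 := by decide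
theorem c2_17 : ∀ k < 8, (2 : ZMod 17) ^ k = 9 → k = 7 := by decide

/-- `9 ^ k + 7 = 2 ^ c`, `c` even -/
theorem nine_seven {k c : ℕ} (hc : 6 ≤ c) (h : 9 ^ k + 7 = 2 ^ c) : c % 8 = 7 := by
  have h1 : (9 : ZMod 64) ^ (k % 8) + 7 = 0 := by
    have h2 := congrArg (Nat.cast : ℕ → ZMod 64) h
    push_cast at h2
    have h3 : (2 : ZMod 64) ^ c = 0 := by
      obtain ⟨e, rfl⟩ := Nat.exists_eq_add_of_le hc
      rw [pow_add, show (2 : ZMod 64) ^ 6 = 0 by decide, zero_mul]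
    rw [h3, ← Nat.div_add_mod k 8, pow_add, pow_mul, show (9 : ZMod 64) ^ 8 = 1 by decide, one_pow, one_mul] at h2
    exact h2
  have h4 := c9_64 _ (Nat.mod_lt _ (by norm_num)) h1
  apply c2_17 _ (Nat.mod_lt _ (by norm_num))
  have h2 := congrArg (Nat.cast : ℕ → ZMod 17) h
  push_cast at h2
  rw [← Nat.div_add_mod k 8, pow_add, pow_mul, show (9 : ZMod 17) ^ 8 = 1 by decide, one_pow, one_mul, h4] at h2
  rw [← Nat.div_add_mod c 8, pow_add, pow_mul, show (2 : ZMod 17) ^ 8 = 1 by decide, one_pow, one_mul] at h2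
  rw [← h2]
  decide

/-- `9 ^ k = 2 ^ c + 1` -/
theorem nine_one {k c : ℕ} (hc : 4 ≤ c) (h : 9 ^ k = 2 ^ c + 1) : False := by
  have h1 : k % 2 = 0 := by
    have h2 := congrArg (Nat.cast : ℕ → ZMod 16) h
    push_cast at h2
    have h3 : (2 : ZMod 16) ^ c = 0 := by
      obtain ⟨e, rfl⟩ := Nat.exists_eq_add_of_le hc
      rw [pow_add, show (2 : ZMod 16) ^ 4 = 0 by decide, zero_mul]
    rw [h3, ← Nat.div_add_mod k 2, pow_add, pow_mul, show (9 : ZMod 16) ^ 2 = 1 by decide, one_pow, one_mul] at h2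
    rcases Nat.mod_two_eq_zero_or_one k with h4 | h4
    · exact h4
    · rw [h4] at h2
      exact absurd h2 (by decide)
  obtain ⟨e, he⟩ : ∃ e, k = 2 * e := ⟨k / 2, by omega⟩
  have h2 : (5 : ℕ) ∣ 2 ^ c := by
    have h3 : 81 ^ e = 2 ^ c + 1 := by rw [← h, he, pow_mul]; norm_num
    have h4 : 81 ^ e % 5 = 1 := by rw [Nat.pow_mod]; norm_num
    omega
  have h3 := Nat.Prime.dvd_of_dvd_pow (by norm_num) h2
  omega

/-- **The numbers.** -/
theorem da_num {n m f u W : ℕ} {y : ℤ} (hn : 4 ≤ n) (hu : u = 2 ^ f) (hf : 1 ≤ f) (hyu : y = u ∨ y = -(u : ℤ))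
    (h3 : 3 ∣ (y - 1).natAbs) (hm : 2 ≤ m) (hW : W * (y - 1).natAbs = ua y (m - 1)) (h : 3 ^ n + 1 = 2 * u * W) :
    False := by
  -- `3 ^ n + 1` is `2` or `4` modulo `8`
  have h8 : 3 ^ n % 8 = 1 ∨ 3 ^ n % 8 = 3 ∧ n % 2 = 1 := by
    rw [← Nat.div_add_mod n 2, pow_add, pow_mul, Nat.mul_mod, Nat.pow_mod]
    rcases Nat.mod_two_eq_zero_or_one n with h4 | h4 <;> rw [h4] <;> norm_num
  have hu1 : f = 1 := by
    by_contra hne
    obtain ⟨e, rfl⟩ : ∃ e, f = 2 + e := ⟨f - 2, by omega⟩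
    have h5 : 8 ∣ 3 ^ n + 1 := by
      rw [h, hu, pow_add]
      exact ⟨2 ^ e * W, by ring⟩
    omega
  subst hu1
  rw [pow_one] at hu
  subst hu
  have hy : y = -2 := by
    rcases hyu with rfl | rfl
    · norm_num at h3
    · rfl
  subst hy
  have h9 : ((-2 : ℤ) - 1).natAbs = 3 := by decide
  rw [h9] at hW
  have h10 : 3 ^ n % 8 = 3 ∧ n % 2 = 1 := by omega
  obtain ⟨k, hk⟩ : ∃ k, n + 1 = 2 * k := ⟨(n + 1) / 2, by omega⟩
  have h11 : 3 ^ (n + 1) = 9 ^ k := by rw [hk, pow_mul]; norm_num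
  have h12 : 3 ^ (n + 1) = 3 * 3 ^ n := pow_succ' 3 n
  have h13 : 3 ^ 4 ≤ 3 ^ n := Nat.pow_le_pow_right (by norm_num) hn
  norm_num at h13
  have h14 : 2 ^ (m + 1) = 4 * 2 ^ (m - 1) := by
    rw [show m + 1 = 2 + (m - 1) by omega, pow_add]; norm_num
  rcases Nat.even_or_odd (m - 1) with hm2 | hm2
  · have h15 : ua (-2) (m - 1) = 2 ^ (m - 1) - 1 := by
      rw [ua, hm2.neg_pow]
      have : (2 : ℤ) ^ (m - 1) = ((2 ^ (m - 1) : ℕ) : ℤ) := by push_cast; rfl
      rw [this]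
      have := Nat.one_le_pow (m - 1) 2 (by norm_num)
      omega
    rw [h15] at hW
    have h16 : 9 ^ k + 7 = 2 ^ (m + 1) := by
      have := Nat.one_le_pow (m - 1) 2 (by norm_num)
      omega
    have h17 : 6 ≤ m + 1 := by
      by_contra hcon
      have : 2 ^ (m + 1) ≤ 2 ^ 5 := Nat.pow_le_pow_right (by norm_num) (by omega)
      norm_num at this
      omega
    have h18 := nine_seven h17 h16
    obtain ⟨c, hc⟩ := hm2
    omega
  · have h15 : ua (-2) (m - 1) = 2 ^ (m - 1) + 1 := by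
      rw [ua, hm2.neg_pow]
      have : (2 : ℤ) ^ (m - 1) = ((2 ^ (m - 1) : ℕ) : ℤ) := by push_cast; rfl
      rw [this]
      omega
    rw [h15] at hW
    have h16 : 9 ^ k = 2 ^ (m + 1) + 1 := by omega
    refine nine_one (c := m + 1) ?_ h16
    by_contra hcon
    have : 2 ^ (m + 1) ≤ 2 ^ 3 := Nat.pow_le_pow_right (by norm_num) (by omega)
    norm_num at this
    omega

variable {t t' : Fam} {p f v f' : ℕ} {L : Type w} [Group L] [Finite L] {G : Type u} [Group G] [Finite G]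
  {K : Subgroup G} [K.Normal] {S : Subgroup (G ⧸ K)} [S.Normal]

/-- **The characteristic of `S` in the second number** (`LS.v_low` for every isolated class of `S`). -/
theorem v_low' (h : LS t p f L G) (hL : Fam.Is p f L t) (hR : Red G K S) (hF : Frm G K S t' v f') (hS : BigS t')
    (hp2 : p ≠ 2) (hvp : v ≠ p) (hT : IsoRk t) (hn : 5 ≤ rk t) {i j : ℕ} (hij : PairOK t i j)
    (hvM : ¬ v ∣ ttor t (p ^ f) i) (hvN : v ∣ ttor t (p ^ f) j) {w1 : ℕ} (hw1 : In t (p ^ f) j w1)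
    (hr3 : 3 ≤ cls t' (v ^ f') w1) (hA : nap t' (cls t' (v ^ f') w1)) : cls t (p ^ f) v ≤ 2 ∨ ∃ m, t' = .ominus m := by
  by_contra hcon
  rw [not_or, not_le] at hcon
  obtain ⟨hk, hno⟩ := hcon
  have hq3 := h.q_three hp2
  obtain ⟨hi3, him, hin, hib, hije⟩ := pair_left hij hn
  obtain ⟨hj3, hjm, hjn, hjb, -⟩ := pair_left (pair_symm hij) hn
  have htf := top_facts_all h.cla h.prime hL
  -- `v` as a prime of `L`
  have hv5 := (cls_facts hF.prime (show 3 ≤ cls t (p ^ f) v by omega)).1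
  have hvG : v ∣ Nat.card G := by
    rw [card_eq_mul (K := K) (S := S)]
    exact Dvd.dvd.mul_right hF.vdvd _
  have hvp' : ¬ v ∣ p := fun hd => hvp ((Nat.prime_dvd_prime_iff_eq hF.prime h.prime).1 hd)
  have hvm : mem t (cls t (p ^ f) v) :=
    (h.adj.dvd v hF.prime (by omega) hvp' (by omega)).1 ((h.dvd_iff hF.prime).1 hvG)
  have hvI : In t (p ^ f) (cls t (p ^ f) v) v := ⟨hF.prime, rfl, by omega, hvm⟩
  obtain ⟨a, b, ha, hb, hab, hka, hkb⟩ := top_two' h.cla hn (show 3 ≤ cls t (p ^ f) v by omega) hvm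
  -- the second class is adjacent to `v`
  have hw1v : w1 ≠ v := h.iso_ne_v hR hF hS hp2 hvp.symm hT hw1 hjn
  have hjv : ¬ na t (cls t (p ^ f) v) j := by
    intro hna
    have hne := hvI.ne hw1 (na_ne hna)
    have hw1N : w1 ∣ ttor t (p ^ f) j := by
      have hfr := Fact.mk hw1.prime
      obtain ⟨y, hy⟩ := exists_prime_orderOf_dvd_card' (G := L) w1 ((h.dvd_iff hw1.prime).1 (hw1.dvd h))
      have := htf.ub w1 hw1.prime (hw1.not_dvd h.fpos)
        (by rw [hw1.cls_eq]; exact top_of_iso h.cla hj3 hjm hjn) y (by rw [hy])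
      rw [hw1.cls_eq, hy] at this
      exact this
    obtain ⟨x, hx⟩ := htf.elt _ (top_of_iso h.cla hj3 hjm hjn)
    have hN0 : ttor t (p ^ f) j ≠ 0 := by rw [← hx]; exact (orderOf_pos x).ne'
    have h1 : ∃ g : G, orderOf g = v * w1 := exists_dvd_order hN0
      (((Nat.coprime_primes hF.prime hw1.prime).2 hne).mul_dvd_of_dvd_of_dvd hvN hw1N) ((h.ord _).2 ⟨x, hx⟩)
    exact (h.adj_iff hvI hw1 hne).1 h1 hna
  -- a third class
  obtain ⟨l, hl, hli, hlj, hkl⟩ : ∃ l, Big t l ∧ l ≠ i ∧ l ≠ j ∧ na t (cls t (p ^ f) v) l := by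
    by_cases h1 : a = i
    · refine ⟨b, hb, fun h2 => hab (by rw [h1, h2]), fun h2 => hjv (by rw [← h2]; exact hkb), hkb⟩
    · exact ⟨a, ha, h1, fun h2 => hjv (by rw [← h2]; exact hka), hka⟩
  obtain ⟨w2, hw2⟩ := exists_in h hq3 hl.1 hl.2.1
  obtain ⟨w0, hw0⟩ := exists_in h hq3 hi3 him
  have hgj : ¬ w1 ∣ Nat.card K * S.index ∧ w1 ∣ Nat.card S :=
    h.good_iso hR hF hp2 hT hw1.prime (by rw [hw1.cls_eq]; exact hj3) (by rw [hw1.cls_eq]; exact hjm)
      (by rw [hw1.cls_eq]; exact hjn)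
  have hgi : ¬ w0 ∣ Nat.card K * S.index ∧ w0 ∣ Nat.card S :=
    h.good_iso hR hF hp2 hT hw0.prime (by rw [hw0.cls_eq]; exact hi3) (by rw [hw0.cls_eq]; exact him)
      (by rw [hw0.cls_eq]; exact hin)
  have hw0v : w0 ≠ v := h.iso_ne_v hR hF hS hp2 hvp.symm hT hw0 hin
  have hw2v : w2 ≠ v := (hvI.ne hw2 (na_ne hkl)).symm
  have hna2 : ¬ ∃ g : G, orderOf g = v * w2 := fun hg => (h.adj_iff hvI hw2 hw2v.symm).1 hg hkl
  have hg2 := hF.good_of_na_v hS hw2.prime hw2.five hw2v (hw2.dvd h) hna2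
  have hna0 : ¬ ∃ g : G, orderOf g = v * w0 := by
    rintro ⟨g, hg⟩
    obtain ⟨y, hy⟩ := (h.ord _).1 ⟨g, hg⟩
    have := htf.ub w0 hw0.prime (hw0.not_dvd h.fpos)
      (by rw [hw0.cls_eq]; exact top_of_iso h.cla hi3 him hin) y (by rw [hy]; exact Dvd.intro_left _ rfl)
    rw [hw0.cls_eq, hy] at this
    exact hvM ((Dvd.intro _ rfl).trans this)
  have hna1 : ¬ ∃ g : S, orderOf g = v * w1 := by
    intro hg
    have h2 := (adjFacts hF.cla hF.prime hF.is).adjp w1 hw1.prime hw1.ne_two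
      (fun hd => hw1v ((Nat.prime_dvd_prime_iff_eq hw1.prime hF.prime).1 hd)) hr3
      (hF.mem_cls hw1.prime hw1.ne_two hgj.2 hr3)
    exact h2.1 (by rwa [mul_comm]) hA
  have n01 := h.not_adj_S (S := S) hw0 hw1 (na_of_big h.cla ⟨hi3, him, hib⟩ ⟨hj3, hjm, hjb⟩ hije)
  have n02 := h.not_adj_S (S := S) hw0 hw2 (na_of_big h.cla ⟨hi3, him, hib⟩ hl (Ne.symm hli))
  have n12 := h.not_adj_S (S := S) hw1 hw2 (na_of_big h.cla ⟨hj3, hjm, hjb⟩ hl (Ne.symm hlj))
  have d01 := hw0.ne hw1 hije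
  have d02 := hw0.ne hw2 (Ne.symm hli)
  have d12 := hw1.ne hw2 (Ne.symm hlj)
  have hsym : ∀ {x y : ℕ}, (¬ ∃ g : S, orderOf g = x * y) → ¬ ∃ g : S, orderOf g = y * x := by
    intro x y hxy
    rwa [mul_comm]
  have hfew := hF.v_few (X := {w0, w1, w2}) (by
    intro x hx
    rw [Finset.mem_insert, Finset.mem_insert, Finset.mem_singleton] at hx
    rcases hx with rfl | rfl | rfl
    · exact ⟨hw0.prime, hw0.five, hw0v, hgi.2⟩
    · exact ⟨hw1.prime, hw1.five, hw1v, hgj.2⟩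
    · exact ⟨hw2.prime, hw2.five, hw2v, hg2.2⟩) (by
    intro x hx
    rw [Finset.mem_insert, Finset.mem_insert, Finset.mem_singleton] at hx
    rcases hx with rfl | rfl | rfl
    · exact fun hg => hna0 (exists_of_S hg)
    · exact hna1
    · exact fun hg => hna2 (exists_of_S hg)) (by
    intro x hx y hy hxy
    rw [Finset.mem_insert, Finset.mem_insert, Finset.mem_singleton] at hx hy
    rcases hx with rfl | rfl | rfl <;> rcases hy with rfl | rfl | rfl
    · exact absurd rfl hxy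
    · exact n01
    · exact n02
    · exact hsym n01
    · exact absurd rfl hxy
    · exact n12
    · exact hsym n02
    · exact hsym n12
    · exact absurd rfl hxy)
  have hcard : ({w0, w1, w2} : Finset ℕ).card = 3 := Finset.card_eq_three.2 ⟨w0, w1, w2, d01, d02, d12, rfl⟩
  exact hno (hfew.2 (by rw [hcard])).1


/-- **The exotic family `DA` does not occur.** -/
theorem exo_da (h : LS t p f L G) (his : Fam.Is p f L t) (hR : Red G K S) (hF : Frm G K S t' v f') (hn5 : 5 ≤ rk t)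
    {i j i' j' w H : ℕ} (D : Duel t p f i j t' v f' i' j' w H S) (ht' : top t' j')
    (hE : ExoDA t (p ^ f) t' (v ^ f')) : False := by
  obtain ⟨n, m, W, rfl, hq, hfam, h3s, h3m, hW, hnum⟩ := hE
  obtain ⟨y, hy⟩ : ∃ y : ℤ, IsAA t' m (v ^ f') y := by
    rcases hfam with ht | ht
    · exact ⟨_, Or.inl ⟨ht, rfl⟩⟩
    · exact ⟨_, Or.inr ⟨ht, rfl⟩⟩
  change 5 ≤ n at hn5
  have hf1 := h.fpos
  have hf1' := D.f'_pos
  have hp := h.prime
  have hvp := D.v_prime
  have hp2 := D.p_ne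
  have hu2 : 2 ≤ v ^ f' := D.v_prime.two_le.trans (Nat.le_self_pow (by omega) _)
  have hq3 := h.q_three hp2
  rw [hy.usg_eq (by omega)] at h3s hW
  have hm' := hy.le hF.is
  obtain ⟨W1, W2⟩ := hy.val hm' hu2
  rw [hy.dgL_eq (by omega), W2] at hW
  -- `v` divides `3 ^ n + 1`
  have hv3 : v ∣ 3 ^ n + 1 := by
    rw [hnum]
    exact ((dvd_pow_self v (by omega)).mul_left 2).mul_right W
  by_cases hv2 : v = 2
  · subst hv2
    refine da_num (n := n) (m := m) (f := f') (u := 2 ^ f') (W := W) (y := y) (by omega) rfl hf1' ?_ h3s hm' hW hnum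
    rcases hy with ⟨-, rfl⟩ | ⟨-, rfl⟩
    · exact Or.inl rfl
    · exact Or.inr rfl
  · -- `v` odd
    have hT : IsoRk (.ominus n) := hn5
    obtain ⟨h1, -, -⟩ := val_ominus (n := n) (q := p ^ f) (by omega) (by omega)
    have hvt : v ∣ ttor (.ominus n) (p ^ f) (2 * n) := by
      have h2 : v ∣ ttor (.ominus n) (p ^ f) (2 * n) * Nat.gcd 4 ((p ^ f) ^ n + 1) := by
        rw [h1, hq]; exact hv3
      rcases hvp.dvd_mul.1 h2 with h3 | h3
      · exact h3
      · exfalso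
        have h4 : v ∣ 2 ^ 2 := h3.trans (Nat.gcd_dvd_left _ _)
        exact hv2 ((Nat.prime_dvd_prime_iff_eq hvp Nat.prime_two).1 (hvp.dvd_of_dvd_pow h4))
    have hvN : v ∣ ttor (.ominus n) (p ^ f) j := by
      rcases D.pair with ⟨rfl, rfl⟩ | ⟨rfl, rfl⟩
      · exact absurd hvt D.vM
      · exact hvt
    obtain ⟨hj3, hjm, hjn, hjb, -⟩ := pair_left (pair_symm D.pair) hn5
    have hw1 : In (.ominus n) (p ^ f) j w := ⟨D.w_prime, D.clsw, hj3, hjm⟩
    have hnap : nap t' (cls t' (v ^ f') w) := by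
      rw [D.clsw']
      have h5 := hy.top_iff.1 ht'
      rcases hfam with rfl | rfl
      · exact show m < j' + 2 by omega
      · exact show m < j' + 2 by omega
    rcases v_low' h his hR hF D.big hp2 D.vp hT hn5 D.pair D.vM hvN hw1 (by rw [D.clsw']; exact D.j'3) hnap with h6 | h6
    · -- `v` divides `8`
      have hvne : ¬ v ∣ p ^ f := by
        intro hd
        exact D.vp ((Nat.prime_dvd_prime_iff_eq hvp hp).1 (hvp.dvd_of_dvd_pow hd))
      have hco : cls (.ominus n) (p ^ f) v = orderOf ((p ^ f : ℕ) : ZMod v) := by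
        rw [cls_eq_co (fun _ h => by cases h)]; rfl
      rw [hco, hq] at h6
      have hfv := Fact.mk hvp
      have h7 : (((3 : ℕ) : ℕ) : ZMod v) ^ 2 = 1 := by
        have hpos : 0 < orderOf (((3 : ℕ) : ℕ) : ZMod v) := by
          refine orderOf_pos_iff.2 (isOfFinOrder_iff_pow_eq_one.2 ⟨v - 1, by have := hvp.two_le; omega,
            ZMod.pow_card_sub_one_eq_one ?_⟩)
          rw [Ne, ZMod.natCast_eq_zero_iff, ← hq]
          exact hvne
        have h8 : orderOf (((3 : ℕ) : ℕ) : ZMod v) ∣ 2 := by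
          rcases (show orderOf (((3 : ℕ) : ℕ) : ZMod v) = 1 ∨ orderOf (((3 : ℕ) : ℕ) : ZMod v) = 2 by omega) with h9 | h9 <;>
            rw [h9] <;> norm_num
        exact orderOf_dvd_iff_pow_eq_one.1 h8
      have h8 : ((8 : ℕ) : ZMod v) = 0 := by
        push_cast at h7 ⊢
        linear_combination h7
      rw [ZMod.natCast_eq_zero_iff] at h8
      have h9 : v ∣ 2 ^ 3 := h8
      exact hv2 ((Nat.prime_dvd_prime_iff_eq hvp Nat.prime_two).1 (hvp.dvd_of_dvd_pow h9))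
    · obtain ⟨m1, hm1⟩ := h6
      rcases hfam with rfl | rfl <;> cases hm1

end Cfsg.Agent.R2.Spec.IIA
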