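import Cfsg.Agent.R2.Spec.IIA.DA

/-!
# Packet EXO-IIA (S3435): the group `PΩ^+_12(q)` (helper4)

`exo_iia_all` : the exotic family `ExoIIA` does not occur in rank at least five.
-/

set_option autoImplicit false

namespace Cfsg.Agent.R2.Spec.IIA

open Cfsg Cfsg.Agent.H426.LieFam Cfsg.Agent.R2.Spec Cfsg.Agent.R2.Spec.P1 Cfsg.Agent.R2.Spec.F1
open Cfsg.Agent.R2.Spec.E Cfsg.Agent.R2.Spec.X7 Cfsg.Agent.R2.Spec.AA Cfsg.Agent.H420.QR

universe u w

variable {t t' : Fam} {p f v f' : ℕ} {L : Type w} [Group L] [Finite L] {G : Type u} [Group G] [Finite G]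
  {K : Subgroup G} [K.Normal] {S : Subgroup (G ⧸ K)} [S.Normal]

/-- **Good primes from a coclique of four classes with a killer**, `S` not `Ω⁻`. -/
theorem good_four' (h : LS t p f L G) (hR : Red G K S) (hF : Frm G K S t' v f') (ht' : ∀ n, t' ≠ .ominus n)
    {I : Finset ℕ} {i : ℕ} (hi : i ∈ I) (hreg : ∀ j ∈ I, 3 ≤ j ∧ mem t j)
    (hna : ∀ j ∈ I, ∀ k ∈ I, j ≠ k → na t j k) (hex : ∀ j ∈ I, ∃ r : ℕ, r.Prime ∧ cls t (p ^ f) r = j)
    (hk : Killer (fun j => j ∈ I) i) (h4 : 4 ≤ I.card) {r : ℕ} (hr : r.Prime) (hri : cls t (p ^ f) r = i) :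
    ¬ r ∣ Nat.card K * S.index ∧ r ∣ Nat.card S := by
  classical
  have hrI : In t (p ^ f) i r := ⟨hr, hri, (hreg i hi).1, (hreg i hi).2⟩
  have hrG := hrI.dvd h
  suffices hnb : ¬ r ∣ Nat.card K * S.index by
    refine ⟨hnb, ?_⟩
    rw [card_eq_mul (K := K) (S := S)] at hrG
    exact (hr.dvd_mul.1 hrG).resolve_right hnb
  intro hbad
  choose! z hz using hex
  have hzI : ∀ j ∈ I, In t (p ^ f) j (z j) := fun j hj => ⟨(hz j hj).1, (hz j hj).2, (hreg j hj).1, (hreg j hj).2⟩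
  have h3 : 3 ≤ I.card := by omega
  have hcard : (I.erase i).card = I.card - 1 := Finset.card_erase_of_mem hi
  have hJ : ∀ j ∈ I.erase i, In t (p ^ f) j (z j) := fun j hj => hzI j (Finset.mem_of_mem_erase hj)
  have hiJ : ∀ j ∈ I.erase i, na t i j := fun j hj =>
    hna i hi j (Finset.mem_of_mem_erase hj) (Finset.ne_of_mem_erase hj).symm
  have hJJ : ∀ j ∈ I.erase i, ∀ k ∈ I.erase i, j ≠ k → na t j k := fun j hj k hk =>
    hna j (Finset.mem_of_mem_erase hj) k (Finset.mem_of_mem_erase hk)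
  obtain ⟨hrK, hrd⟩ : ¬ r ∣ Nat.card K ∧ ¬ r ∣ dg t' (v ^ f') := by
    by_contra hcon
    rw [not_and_or, not_not, not_not] at hcon
    obtain ⟨-, ⟨-, -, n, hn⟩, -⟩ := h.few hR hF hrI hbad hcon hJ hiJ hJJ (by omega)
    exact ht' n hn
  refine killer_false hr hrI.five (X := sg t (p ^ f)) hri (hreg i hi).1 ?_ hk
  intro l hl hli
  obtain ⟨k, hk, hki, hkl⟩ := exists_third h3 i l
  exact h.hc hR hF hrI hbad hrK hrd (hreg l hl).1 (hreg l hl).2 (hna i hi l hl hli.symm)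
    ⟨k, z k, hzI k hk, hna i hi k hk hki.symm, hna l hl k hk hkl.symm⟩

/-- the class `8` of `PΩ^+_12(q)` -/
theorem good_oplus_six (h : LS (.oplus 6) p f L G) (hR : Red G K S) (hF : Frm G K S t' v f')
    (ht' : ∀ n, t' ≠ .ominus n) (hp2 : p ≠ 2) {r : ℕ} (hr : r.Prime) (hri : cls (.oplus 6) (p ^ f) r = 8) :
    ¬ r ∣ Nat.card K * S.index ∧ r ∣ Nat.card S := by
  have hq3 := h.q_three hp2
  obtain ⟨h1, h2⟩ := coqB_of (t := .oplus 6) (I := [3, 5, 8, 10]) (by decide)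
  refine good_four' h hR hF ht' (I := [3, 5, 8, 10].toFinset) (i := 8) (by decide) h1 h2
    (fun j hj => exists_cls h.q_pos (h1 j hj).1 fun hq2 => by omega) ?_ (by decide) hr hri
  right; right; right; right; right; right; left
  exact ⟨rfl, by decide, by decide⟩

/-- **The exotic family `IIA` does not occur.** -/
theorem exo_iia_all (h : LS t p f L G) (his : Fam.Is p f L t) (hR : Red G K S) (hF : Frm G K S t' v f')
    (hn5 : 5 ≤ rk t) {i j i' j' w H H' : ℕ} (D : Duel t p f i j t' v f' i' j' w H S)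
    (hH' : ttor t (p ^ f) j = H' * ttor t' (v ^ f') j') (hE : ExoIIA t t' (v ^ f') i' j' H H') : False := by
  by_cases h6 : t = .oplus 6
  · subst h6
    refine exo_iia' h his hF hn5 D hH' hE fun z hz hzc => ?_
    obtain ⟨m, -, ht', -⟩ := hE
    exact (good_oplus_six h hR hF (by
      rintro n rfl
      rcases ht' with h1 | h1 <;> cases h1) D.p_ne hz hzc).2
  · exact exo_iia h his hR hF hn5 h6 D hH' hE

end Cfsg.Agent.R2.Spec.IIA
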