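import Cfsg.Agent.R2.Spec.P1.TopOdd
import Cfsg.Agent.R2.Spec.P1.TopEvenX

/-!
# Packet EXO-IIA (S3435): orders divisible by a prime of the class `2 m` in dimension at most `2 m + 4` (helper4)

`L = PSp_2n(q)`, `Ω_{2n+1}(q)` (`m = n - 1`), `PΩ^+_2n(q)` (`m = n - 2`).
-/

set_option autoImplicit false
set_option linter.unusedSectionVars false

namespace Cfsg.Agent.R2.Spec.IIA

open Module Polynomial Cfsg Cfsg.Agent.H426.LieFam Cfsg.Agent.R2.Spec
open Cfsg.Agent.H160.QRoots Cfsg.Agent.H160.QChar Cfsg.Agent.R2.Spec.P1 Cfsg.Agent.R2.Spec.P1.Eig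
open Cfsg.Agent.LieClassical.OrthCore (Nondeg O)
open Cfsg.Agent.LieClassical.OrthForms Cfsg.Agent.H160.QSpin Cfsg.Agent.H160.QDisc Cfsg.Agent.H160.QSplit

universe u

section

variable {K : Type*} [Field K] [DecidableEq K] {q : ℕ} {R : Multiset K}

theorem sq_frob (hodd : q % 2 = 1) {z : K} (h : z * z = 1) : z ^ q = z := by
  obtain ⟨j, hj⟩ : ∃ j, q = 2 * j + 1 := ⟨q / 2, by omega⟩
  rw [hj, pow_succ, pow_mul, pow_two, h, one_pow, one_mul]

/-- **The exponent of a small rest.** -/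
theorem rest_exp (hq : Function.Injective (fun x : K => x ^ q)) (hodd : q % 2 = 1) (h : ED q R) (hc : R.card ≤ 4) :
    (∀ z ∈ R, z ^ (q ^ 2 - 1) = 1) ∨ (∀ z ∈ R, z ^ (q ^ 2 + 1) = 1) := by
  have hq1 : 1 ≤ q := by omega
  by_cases hall : ∀ z ∈ R, z ^ (q ^ 2) = z
  · left
    intro z hz
    have h1 := hall z hz
    have h2 : z ^ (q ^ 2 - 1) * z = 1 * z := by
      rw [← pow_succ, Nat.sub_add_cancel (Nat.one_le_pow _ _ hq1), h1, one_mul]
    exact mul_right_cancel₀ (h.ne0 z hz) h2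
  · right
    push Not at hall
    obtain ⟨z, hz, hz2⟩ := hall
    have hz0 := h.ne0 z hz
    have hqq : z ^ (q ^ 2) = (z ^ q) ^ q := by rw [pow_two, pow_mul]
    have n1 : z ^ q ≠ z := fun h1 => hz2 (by rw [hqq, h1, h1])
    have n2 : z⁻¹ ≠ z := by
      intro h1
      apply n1
      apply sq_frob hodd
      nth_rewrite 1 [← h1]
      exact inv_mul_cancel₀ hz0
    have n3 : z ^ q ≠ z⁻¹ := fun h1 => hz2 (by rw [hqq, h1, inv_pow, h1, inv_inv])
    have m1 : z ^ q ∈ R := by
      rw [← Multiset.one_le_count_iff_mem, h.frob, Multiset.one_le_count_iff_mem]; exact hz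
    have m2 : z⁻¹ ∈ R := by
      rw [← Multiset.one_le_count_iff_mem, h.inv, Multiset.one_le_count_iff_mem]; exact hz
    have m3 : (z ^ q)⁻¹ ∈ R := by
      rw [← Multiset.one_le_count_iff_mem, h.inv, Multiset.one_le_count_iff_mem]; exact m1
    have m4 : z ^ (q ^ 2) ∈ R := by
      rw [hqq, ← Multiset.one_le_count_iff_mem, h.frob, Multiset.one_le_count_iff_mem]; exact m1
    have n4 : (z ^ q)⁻¹ ≠ z := fun h1 => n3 (inv_eq_iff_eq_inv.1 h1)
    have n5 : (z ^ q)⁻¹ ≠ z ^ q := by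
      intro h1
      apply n2
      apply hq
      show (z⁻¹) ^ q = z ^ q
      rw [inv_pow]
      exact h1
    have n6 : (z ^ q)⁻¹ ≠ z⁻¹ := fun h1 => n1 (inv_injective h1)
    have hS : ({z, z ^ q, z⁻¹, (z ^ q)⁻¹} : Finset K).card = 4 := by
      rw [Finset.card_insert_of_notMem, Finset.card_insert_of_notMem, Finset.card_insert_of_notMem,
        Finset.card_singleton]
      · rw [Finset.mem_singleton]; exact fun h1 => n6 h1.symm
      · rw [Finset.mem_insert, Finset.mem_singleton, not_or]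
        exact ⟨n3, fun h1 => n5 h1.symm⟩
      · rw [Finset.mem_insert, Finset.mem_insert, Finset.mem_singleton, not_or, not_or]
        exact ⟨fun h1 => n1 h1.symm, fun h1 => n2 h1.symm, fun h1 => n4 h1.symm⟩
    have hsub : ({z, z ^ q, z⁻¹, (z ^ q)⁻¹} : Finset K) ⊆ R.toFinset := by
      intro w hw
      rw [Finset.mem_insert, Finset.mem_insert, Finset.mem_insert, Finset.mem_singleton] at hw
      rw [Multiset.mem_toFinset]
      rcases hw with rfl | rfl | rfl | rfl <;> assumption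
    have heq := Finset.eq_of_subset_of_card_le hsub (by
      rw [hS]
      exact (Multiset.toFinset_card_le R).trans hc)
    have hmem : ∀ w, w ∈ R → w = z ∨ w = z ^ q ∨ w = z⁻¹ ∨ w = (z ^ q)⁻¹ := by
      intro w hw
      rw [← Multiset.mem_toFinset, ← heq, Finset.mem_insert, Finset.mem_insert, Finset.mem_insert,
        Finset.mem_singleton] at hw
      exact hw
    have hz3 : z ^ (q ^ 2) = z⁻¹ := by
      rcases hmem _ m4 with h1 | h1 | h1 | h1
      · exact absurd h1 hz2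
      · rw [hqq] at h1
        exact absurd (hq h1) n1
      · exact h1
      · rw [hqq, ← inv_pow] at h1
        exact absurd (hq h1) n3
    have hz4 : z ^ (q ^ 2 + 1) = 1 := by rw [pow_succ, hz3, inv_mul_cancel₀ hz0]
    intro w hw
    rcases hmem w hw with rfl | rfl | rfl | rfl
    · exact hz4
    · rw [← pow_mul, mul_comm, pow_mul, hz4, one_pow]
    · rw [inv_pow, hz4, inv_one]
    · rw [inv_pow, ← pow_mul, mul_comm, pow_mul, hz4, one_pow, inv_one]

/-- **The exponent.** -/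
theorem third_ed (hq : Function.Injective (fun x : K => x ^ q)) (hodd : q % 2 = 1) (h : ED q R) {m r k : ℕ} {x : K}
    (hx : x ∈ R) (hr : r.Prime) (h1 : x ^ k ≠ 1) (hxr : (x ^ k) ^ r = 1) (hi : orderOf (q : ZMod r) = 2 * m)
    (hm : 4 ≤ m) (hc : R.card ≤ 2 * m + 4) {p : ℕ} (hp : p.Prime) (hp2 : p ≠ 2) (hpq : p ∣ q) :
    ∃ T j : ℕ, (∀ z ∈ R, z ^ T = 1) ∧ (∀ z, R.count z ≤ p ^ j) ∧
      (∃ K', 0 < K' ∧ K' ≤ (q + 1) ^ 2 ∧ T * p ^ j ∣ K' * (q * (q ^ m + 1))) ∧
      T * p ^ j ∣ 9 * (q * ((q ^ 4 - 1) * (q ^ m + 1))) := by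
  have hq1 : 1 ≤ q := by omega
  have hp3 : 3 ≤ p := by have := hp.two_le; omega
  have hq3 : 3 ≤ q := hp3.trans (Nat.le_of_dvd (by omega) hpq)
  obtain ⟨hmin, hb, -, R', hR, hR', hcard⟩ := h.block hq hq1 hx hr h1 hxr hi (by omega) (Or.inl rfl) (by omega)
  have hxx := hb rfl
  have hx0 := hmin.ne0
  have hxZ : x ^ (q ^ m + 1) = 1 := by rw [pow_succ, hxx, inv_mul_cancel₀ hx0]
  have horb : ∀ z ∈ orb q x m, z ^ (q ^ m + 1) = 1 := by
    intro z hz
    obtain ⟨i, -, rfl | rfl⟩ := mem_orb.1 hz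
    · rw [← pow_mul, mul_comm, pow_mul, hxZ, one_pow]
    · rw [inv_pow, ← pow_mul, mul_comm, pow_mul, hxZ, one_pow, inv_one]
  have hc4 : R'.card ≤ 4 := by omega
  have hnd : (orb q x m).val.Nodup := (orb q x m).nodup
  -- the orbit and the rest are disjoint
  have hdis : ∀ z, z ∈ orb q x m → R'.count z = 0 := by
    intro z hz
    by_contra hne
    have hz1 : 1 ≤ R'.count z := by omega
    have hcz : R'.count x = R'.count z := (hR'.count_orb hz).symm
    have h2 : (orb q x m).val ≤ R' := by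
      rw [Multiset.le_iff_count]
      intro w
      by_cases hw : w ∈ orb q x m
      · rw [Multiset.count_eq_one_of_mem hnd hw, hR'.count_orb hw, hcz]
        exact hz1
      · rw [Multiset.count_eq_zero_of_notMem (s := (orb q x m).val) hw]
        exact Nat.zero_le _
    have h3 := Multiset.card_le_card h2
    rw [Finset.card_val, card_orb hq hmin] at h3
    omega
  have hcnt : ∀ z, R.count z ≤ max 1 (R'.count z) := by
    intro z
    rw [hR, Multiset.count_add]
    by_cases hz : z ∈ orb q x m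
    · rw [hdis z hz, Multiset.count_eq_one_of_mem hnd hz]
      omega
    · rw [Multiset.count_eq_zero_of_notMem (s := (orb q x m).val) hz]
      omega
  have hmem : ∀ z ∈ R, z ∈ orb q x m ∨ z ∈ R' := by
    intro z hz
    rw [hR, Multiset.mem_add] at hz
    exact hz
  have hZ2 : 2 ∣ q ^ m + 1 := by
    have : q ^ m % 2 = 1 := by rw [Nat.pow_mod, hodd, one_pow]; rfl
    omega
  have hq4 : q ^ 4 - 1 = (q ^ 2 - 1) * (q ^ 2 + 1) := by
    have h2 : 1 ≤ q ^ 2 := Nat.one_le_pow _ _ hq1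
    obtain ⟨c, hc⟩ : ∃ c, q ^ 2 = c + 1 := ⟨q ^ 2 - 1, by omega⟩
    rw [show q ^ 4 = (q ^ 2) ^ 2 by ring, hc, Nat.add_sub_cancel]
    have : (c + 1) ^ 2 = c * (c + 1 + 1) + 1 := by ring
    omega
  by_cases h4 : ∃ z, 4 ≤ R'.count z
  · -- all four equal
    obtain ⟨z, hz⟩ := h4
    have h5 : R'.count z = R'.card := le_antisymm (Multiset.count_le_card _ _) (by omega)
    have h6 := Multiset.count_eq_card.1 h5
    have hzR : z ∈ R' := by rw [← Multiset.one_le_count_iff_mem]; omega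
    have hzi : z⁻¹ ∈ R' := by
      rw [← Multiset.one_le_count_iff_mem, hR'.inv]; omega
    have hz2 : z = z⁻¹ := h6 _ hzi
    have hz0 := hR'.ne0 z hzR
    have hzZ : z ^ (q ^ m + 1) = 1 := by
      obtain ⟨c, hc⟩ := hZ2
      rw [hc, pow_mul, pow_two]
      nth_rewrite 1 [hz2]
      rw [inv_mul_cancel₀ hz0, one_pow]
    have hex : ∀ w ∈ R, w ^ (q ^ m + 1) = 1 := by
      intro w hw
      rcases hmem w hw with h7 | h7
      · exact horb w h7
      · rw [← h6 w h7]
        exact hzZ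
    rcases Nat.lt_or_ge p 4 with h7 | h7
    · have hp3' : p = 3 := by omega
      subst hp3'
      refine ⟨q ^ m + 1, 2, hex, ?_, ⟨3, by norm_num, ?_, ?_⟩, ?_⟩
      · intro w
        have := hcnt w
        have := Multiset.count_le_card w R'
        norm_num
        omega
      · have : 4 ^ 2 ≤ (q + 1) ^ 2 := Nat.pow_le_pow_left (by omega) 2
        omega
      · obtain ⟨c, hc⟩ := hpq
        refine ⟨c, ?_⟩
        generalize q ^ m + 1 = b
        rw [hc]
        ring
      · refine ⟨q * (q ^ 4 - 1), ?_⟩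
        generalize q ^ m + 1 = b
        generalize q ^ 4 - 1 = a
        ring
    · refine ⟨q ^ m + 1, 1, hex, ?_, ⟨1, by norm_num, Nat.one_le_pow _ _ (by omega), ?_⟩, ?_⟩
      · intro w
        have := hcnt w
        have := Multiset.count_le_card w R'
        rw [pow_one]
        omega
      · obtain ⟨c, hc⟩ := hpq
        refine ⟨c, ?_⟩
        generalize q ^ m + 1 = b
        rw [hc]
        ring
      · obtain ⟨c, hc⟩ := hpq
        refine ⟨9 * (c * (q ^ 4 - 1)), ?_⟩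
        generalize q ^ m + 1 = b
        generalize q ^ 4 - 1 = a
        rw [hc]
        ring
  · push Not at h4
    have hct : ∀ w, R.count w ≤ p ^ 1 := by
      intro w
      have := hcnt w
      have := h4 w
      rw [pow_one]
      omega
    rcases rest_exp hq hodd hR' hc4 with h5 | h5
    · refine ⟨(q ^ 2 - 1) * (q ^ m + 1), 1, ?_, hct, ⟨q ^ 2 - 1, ?_, ?_, ?_⟩, ?_⟩
      · intro z hz
        rcases hmem z hz with h6 | h6
        · rw [mul_comm, pow_mul, horb z h6, one_pow]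
        · rw [pow_mul, h5 z h6, one_pow]
      · have : 3 ^ 2 ≤ q ^ 2 := Nat.pow_le_pow_left hq3 2
        omega
      · have : (q + 1) ^ 2 = q ^ 2 + 2 * q + 1 := by ring
        omega
      · obtain ⟨c, hc⟩ := hpq
        refine ⟨c, ?_⟩
        generalize q ^ 2 - 1 = a
        generalize q ^ m + 1 = b
        rw [hc]
        ring
      · obtain ⟨c, hc⟩ := hpq
        refine ⟨9 * (c * (q ^ 2 + 1)), ?_⟩
        rw [hq4]
        generalize q ^ 2 - 1 = a
        generalize q ^ 2 + 1 = a'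
        generalize q ^ m + 1 = b
        rw [hc]
        ring
    · refine ⟨(q ^ 2 + 1) * (q ^ m + 1), 1, ?_, hct, ⟨q ^ 2 + 1, ?_, ?_, ?_⟩, ?_⟩
      · intro z hz
        rcases hmem z hz with h6 | h6
        · rw [mul_comm, pow_mul, horb z h6, one_pow]
        · rw [pow_mul, h5 z h6, one_pow]
      · omega
      · have : (q + 1) ^ 2 = q ^ 2 + 2 * q + 1 := by ring
        omega
      · obtain ⟨c, hc⟩ := hpq
        refine ⟨c, ?_⟩
        generalize q ^ 2 + 1 = a
        generalize q ^ m + 1 = b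
        rw [hc]
        ring
      · obtain ⟨c, hc⟩ := hpq
        refine ⟨9 * (c * (q ^ 2 - 1)), ?_⟩
        rw [hq4]
        generalize q ^ 2 - 1 = a
        generalize q ^ 2 + 1 = a'
        generalize q ^ m + 1 = b
        rw [hc]
        ring

end

/-- the restriction for the orders divisible by a prime of the class `2 m` -/
def TOK (q m N : ℕ) : Prop :=
  (∃ K', 0 < K' ∧ K' ≤ (q + 1) ^ 2 ∧ N ∣ K' * (q * (q ^ m + 1))) ∧ N ∣ 9 * (q * ((q ^ 4 - 1) * (q ^ m + 1)))

theorem TOK.of_dvd {q m N N' : ℕ} (h : TOK q m N) (hd : N' ∣ N) : TOK q m N' := by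
  obtain ⟨⟨K', h1, h2, h3⟩, h4⟩ := h
  exact ⟨⟨K', h1, h2, hd.trans h3⟩, hd.trans h4⟩

open Classical in
theorem third_end {F V : Type*} [Field F] [Fintype F] [AddCommGroup V] [Module F V] [FiniteDimensional F V] {p : ℕ} [hp : Fact p.Prime] [CharP F p] (hp2 : p ≠ 2) {f : Module.End F V}
    {N r m : ℕ} (hN : 0 < N) (hf : f ^ N = 1) (hmin : ∀ k, f ^ k = 1 → N ∣ k) (hr : r.Prime) (hrp : r ≠ p)
    (hrN : r ∣ N) (hED : ED (Fintype.card F) (rts f)) (hdim : finrank F V ≤ 2 * m + 4)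
    (hi : orderOf ((Fintype.card F : ℕ) : ZMod r) = 2 * m) (hm : 4 ≤ m) (hodd : Fintype.card F % 2 = 1)
    (hpF : p ∣ Fintype.card F) : TOK (Fintype.card F) m N := by
  obtain ⟨x, hx, k, hk1, hkr⟩ := exists_eig (f := f) (p := p) hN hf hmin hr hrp hrN
  obtain ⟨T, j, h1, h2, h3, h4⟩ := third_ed (frob_inj F) hodd hED hx hr hk1 hkr hi hm (by rw [card_rts]; exact hdim)
    hp.out hp2 hpF
  have h5 : N ∣ T * p ^ j := hmin _ (pow_eq_one_of_bd (M := p ^ j) ⟨h2, h1⟩ le_rfl)
  exact TOK.of_dvd ⟨h3, h4⟩ h5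

/-- `PSp_2n(q)` -/
theorem third_psp {F : Type*} [Field F] [Fintype F] {p : ℕ} [Fact p.Prime] [CharP F p] (hp2 : p ≠ 2) {n m : ℕ}
    (hn : n ≤ m + 2) (hm : 4 ≤ m) (hodd : Fintype.card F % 2 = 1) (hpF : p ∣ Fintype.card F)
    {y : PSp n F} {r : ℕ} (hr : r.Prime) (hrp : r ≠ p) (hrg : r ∣ orderOf y)
    (hi : orderOf ((Fintype.card F : ℕ) : ZMod r) = 2 * m) : TOK (Fintype.card F) m (orderOf y) := by
  classical
  obtain ⟨A, rfl⟩ := QuotientGroup.mk_surjective y
  set M : Matrix (Fin n ⊕ Fin n) (Fin n ⊕ Fin n) F := (A : Matrix (Fin n ⊕ Fin n) (Fin n ⊕ Fin n) F) with hM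
  set g : Module.End F (Fin n ⊕ Fin n → F) := Matrix.toLin' M with hg
  have hfin : finrank F (Fin n ⊕ Fin n → F) = 2 * n := by
    rw [Module.finrank_fintype_fun_eq_card]; simp; ring
  have hroots : (M.map (algebraMap F (AlgebraicClosure F))).charpoly.roots = rts g := by
    rw [Matrix.charpoly_map, rts, hg, Matrix.charpoly_toLin']
  have hJM : Matrix.transpose M * Matrix.J (Fin n) F * M = Matrix.J (Fin n) F := SymplecticGroup.mem_iff'.1 A.2
  have hinv : rts g = (rts g).map (fun x => x⁻¹) := by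
    rw [← hroots]
    refine roots_inv (M := M.map (algebraMap F (AlgebraicClosure F)))
      (G := (Matrix.J (Fin n) F).map (algebraMap F (AlgebraicClosure F))) ?_ ?_ (IsAlgClosed.splits _)
    · have h4 : ((Matrix.J (Fin n) F).map (algebraMap F (AlgebraicClosure F))).det =
          algebraMap F (AlgebraicClosure F) (Matrix.J (Fin n) F).det := by
        rw [RingHom.map_det]; rfl
      rw [h4]
      exact (_root_.map_ne_zero _).2 (Matrix.isUnit_det_J (Fin n) F).ne_zero
    · have h5 := congrArg (fun A : Matrix _ _ F => A.map (algebraMap F (AlgebraicClosure F))) hJM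
      simp only [Matrix.map_mul] at h5
      exact h5
  have hdetM : M.det = 1 := SymplecticGroup.det_eq_one A.2
  have hprod : (rts g).prod = 1 := prod_rts (by rw [hg, LinearMap.det_toLin', hdetM])
  have hED : ED (Fintype.card F) (rts g) := by
    refine ⟨fun x => ?_, fun x => ?_, ?_⟩
    · have := count_frob g x
      convert this using 2
    · conv_lhs => rw [hinv]
      exact Multiset.count_map_eq_count' _ _ inv_injective _
    · rintro x hx rfl
      rw [Multiset.prod_eq_zero hx] at hprod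
      exact zero_ne_one hprod
  have hpow : ∀ k, g ^ k = 1 ↔ A ^ k = 1 := by
    intro k
    have h4 : (1 : Module.End F (Fin n ⊕ Fin n → F)) = Matrix.toLin' 1 := by
      rw [Matrix.toLin'_one]; rfl
    rw [hg, ← Matrix.toLin'_pow, h4, (Matrix.toLin' (R := F)).injective.eq_iff, Subtype.ext_iff]
    rfl
  have hfinG : Finite (Matrix.symplecticGroup (Fin n) F) := inferInstance
  have hN : 0 < orderOf A := orderOf_pos A
  have hd : orderOf (QuotientGroup.mk A : PSp n F) ∣ orderOf A := orderOf_map_dvd (QuotientGroup.mk' _) A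
  exact (third_end hp2 hN ((hpow _).2 (pow_orderOf_eq_one A))
    (fun k hk => orderOf_dvd_of_pow_eq_one ((hpow k).1 hk)) hr hrp (hrg.trans hd) hED (by omega) hi hm hodd
    hpF).of_dvd hd

/-- `PΩ` -/
theorem third_pomega {F : Type*} [Field F] [Fintype F] {ι : Type} [Fintype ι] [DecidableEq ι] {p : ℕ} [Fact p.Prime]
    [CharP F p] (hp2 : p ≠ 2) (h2 : (2 : F) ≠ 0) {Q : QuadraticForm F (ι → F)} (hQ : Nondeg Q) {m : ℕ}
    (h5 : 5 ≤ Fintype.card ι) (hV : Fintype.card ι ≤ 2 * m + 4) (hm : 4 ≤ m) (hodd : Fintype.card F % 2 = 1)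
    (hpF : p ∣ Fintype.card F) {y : POmega F ⇑Q} {r : ℕ} (hr : r.Prime) (hrp : r ≠ p) (hrg : r ∣ orderOf y)
    (hi : orderOf ((Fintype.card F : ℕ) : ZMod r) = 2 * m) : TOK (Fintype.card F) m (orderOf y) := by
  classical
  obtain ⟨g, hg, -, hgo⟩ := lift_pomega h2 hQ h5 y
  obtain ⟨hgO, -, -⟩ := hg
  have hN : 0 < orderOf g := by
    have hfin : Finite ((ι → F) ≃ₗ[F] (ι → F)) :=
      Finite.of_injective (fun g : (ι → F) ≃ₗ[F] (ι → F) => (g : (ι → F) → (ι → F))) DFunLike.coe_injective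
    exact orderOf_pos g
  exact (third_end (f := en g) hp2 hN (by rw [← en_pow, pow_orderOf_eq_one]; rfl)
    (fun k hk => orderOf_dvd_of_pow_eq_one (en_inj (by rw [en_pow, hk]; rfl))) hr hrp (hrg.trans hgo)
    (ed_rts hQ hgO) (by rw [Module.finrank_fintype_fun_eq_card]; exact hV) hi hm hodd hpF).of_dvd hgo

/-- **The orders divisible by a prime of the class `2 m`.** -/
theorem third {t : Fam} {n m : ℕ} (ht : (t = .psp n ∨ t = .oodd n) ∧ n = m + 1 ∨ t = .oplus n ∧ n = m + 2) {p f : ℕ}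
    {X : Type u} [Group X] [Finite X] (hp : p.Prime) (hp2 : p ≠ 2) (h : Fam.Is p f X t) (hm : 4 ≤ m) {x : X} {r : ℕ}
    (hr : r.Prime) (hrp : r ≠ p) (hrg : r ∣ orderOf x) (hi : cls t (p ^ f) r = 2 * m) : TOK (p ^ f) m (orderOf x) := by
  classical
  have hfp := Fact.mk hp
  have hpo : Odd (p ^ f) := (hp.odd_of_ne_two hp2).pow
  rcases ht with ⟨rfl | rfl, hn⟩ | ⟨rfl, hn⟩
  · obtain ⟨hn2, -, F, _, _, hch, hF, ⟨E⟩⟩ := h
    obtain ⟨hf, -, h2, -⟩ := field_data hp hp2 hF
    have hco : cls (.psp n) (p ^ f) r = orderOf ((Fintype.card F : ℕ) : ZMod r) := by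
      rw [cls_eq_co (fun _ h => by cases h), hF]; rfl
    rw [hco] at hi
    rw [← MulEquiv.orderOf_eq E x] at hrg ⊢
    rw [← hF] at hpo ⊢
    exact third_psp hp2 (by omega) hm (Nat.odd_iff.1 hpo) (by rw [hF]; exact dvd_pow_self p hf) hr hrp hrg hi
  · obtain ⟨hn2, -, F, _, _, hch, hF, ⟨E⟩⟩ := h
    obtain ⟨hf, -, h2, -⟩ := field_data hp hp2 hF
    have hco : cls (.oodd n) (p ^ f) r = orderOf ((Fintype.card F : ℕ) : ZMod r) := by
      rw [cls_eq_co (fun _ h => by cases h), hF]; rfl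
    rw [hco] at hi
    rw [← MulEquiv.orderOf_eq E x] at hrg ⊢
    rw [← hF] at hpo ⊢
    have hcard : Fintype.card (Option (Fin n ⊕ Fin n)) = 2 * n + 1 := by simp; ring
    have key : ∀ y : POmega F ⇑(oddForm n F), r ∣ orderOf y → TOK (Fintype.card F) m (orderOf y) := fun y hy =>
      third_pomega hp2 h2 (nondeg_oddForm n F h2) (by simp; omega) (by simp; omega) hm (Nat.odd_iff.1 hpo)
        (by rw [hF]; exact dvd_pow_self p hf) hr hrp hy hi
    rw [coe_oddForm] at key
    exact key (E x) hrg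
  · obtain ⟨hn2, F, _, _, hch, hF, ⟨E⟩⟩ := h
    obtain ⟨hf, -, h2, -⟩ := field_data hp hp2 hF
    have hco : cls (.oplus n) (p ^ f) r = orderOf ((Fintype.card F : ℕ) : ZMod r) := by
      rw [cls_eq_co (fun _ h => by cases h), hF]; rfl
    rw [hco] at hi
    rw [← MulEquiv.orderOf_eq E x] at hrg ⊢
    rw [← hF] at hpo ⊢
    have key : ∀ y : POmega F ⇑(plusForm n F), r ∣ orderOf y → TOK (Fintype.card F) m (orderOf y) := fun y hy =>
      third_pomega hp2 h2 (nondeg_plusForm n F) (by simp; omega) (by simp; omega) hm (Nat.odd_iff.1 hpo)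
        (by rw [hF]; exact dvd_pow_self p hf) hr hrp hy hi
    rw [coe_plusForm] at key
    exact key (E x) hrg

end Cfsg.Agent.R2.Spec.IIA
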