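import Cfsg.Agent.R2.Spec.IIA.Num
import Cfsg.Agent.R2.Spec.IIA.Third
import Cfsg.Agent.R2.Spec.AA.Data
import Cfsg.Agent.R2.Spec.E.NonCL
import Cfsg.Agent.R2.Spec.F1.DuelEx

/-!
# Packet EXO-IIA (S3435) (helper4)

`exo_iia` : the exotic family `ExoIIA` does not occur.
-/

set_option autoImplicit false

namespace Cfsg.Agent.R2.Spec.IIA

open Cfsg Cfsg.Agent.H426.LieFam Cfsg.Agent.R2.Spec Cfsg.Agent.R2.Spec.P1 Cfsg.Agent.R2.Spec.F1
open Cfsg.Agent.R2.Spec.E Cfsg.Agent.R2.Spec.X7 Cfsg.Agent.R2.Spec.AA Cfsg.Agent.H420.QR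

universe u w

/-- the numbers of `L` -/
theorem fam_val {t : Fam} {q i j : ℕ} (hII : FamII t) (hr : 4 ≤ rk t) (hq3 : 3 ≤ q) (hq2 : q % 2 = 1)
    (h : PairOK t i j) : ttor t q i + ttor t q j = q ^ dimL t ∧
      4 * (ttor t q i * ttor t q j) + 1 = q ^ (2 * dimL t) := by
  have key : ∀ {a b n : ℕ}, 2 * a = q ^ n + 1 → 2 * b + 1 = q ^ n → (a + b = q ^ n ∧ 4 * (a * b) + 1 = q ^ (2 * n)) ∧
      (b + a = q ^ n ∧ 4 * (b * a) + 1 = q ^ (2 * n)) := by
    intro a b n h1 h2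
    have h3 : a = b + 1 := by omega
    have h4 : q ^ (2 * n) = (q ^ n) ^ 2 := by rw [mul_comm, pow_mul]
    rw [h4, ← h2, h3]
    refine ⟨⟨by ring, by ring⟩, by ring, by ring⟩
  cases t with
  | psp n =>
    change 4 ≤ n at hr
    obtain ⟨h3, h4⟩ := val_psp (n := n) (q := q) (by omega) (by omega)
    rw [gcd_two_odd hq2] at h3 h4
    have h5 := Nat.one_le_pow n q (by omega)
    obtain ⟨k1, k2⟩ := key (a := ttor (.psp n) q (2 * n)) (b := ttor (.psp n) q n) (n := n) (by omega) (by omega)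
    obtain ⟨h0, ⟨rfl, rfl⟩ | ⟨rfl, rfl⟩⟩ := h
    · exact k2
    · exact k1
  | oodd n =>
    change 4 ≤ n at hr
    obtain ⟨h3, h4⟩ := val_psp (n := n) (q := q) (by omega) (by omega)
    rw [gcd_two_odd hq2] at h3 h4
    have h5 := Nat.one_le_pow n q (by omega)
    obtain ⟨k1, k2⟩ := key (a := ttor (.psp n) q (2 * n)) (b := ttor (.psp n) q n) (n := n) (by omega) (by omega)
    rw [ttor_oodd, ttor_oodd]
    obtain ⟨h0, ⟨rfl, rfl⟩ | ⟨rfl, rfl⟩⟩ := h
    · exact k2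
    · exact k1
  | oplus n =>
    change 4 ≤ n at hr
    have h0 : n % 2 = 0 := hII
    have hd : dimL (.oplus n) = n - 1 := by rw [dimL, if_pos h0]
    obtain ⟨h3, h4⟩ := val_oplus_even (n := n) (q := q) hr h0 (by omega)
    rw [gcd_two_odd hq2] at h3 h4
    have h5 := Nat.one_le_pow (n - 1) q (by omega)
    rw [hd]
    obtain ⟨k1, k2⟩ := key (a := ttor (.oplus n) q (2 * (n - 1))) (b := ttor (.oplus n) q (n - 1)) (n := n - 1)
      (by omega) (by omega)
    rcases h with ⟨h1, -⟩ | ⟨-, ⟨rfl, rfl⟩ | ⟨rfl, rfl⟩⟩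
    · omega
    · exact k2
    · exact k1
  | _ => exact hII.elim

/-- the shape of `L` -/
theorem fam_shape {t : Fam} (hII : FamII t) (hr : 5 ≤ rk t) : ∃ n m0 : ℕ, m0 % 2 = 0 ∧ 4 ≤ m0 ∧ dimL t = m0 + 1 ∧
    ((t = .psp n ∨ t = .oodd n) ∧ n = m0 + 1 ∨ t = .oplus n ∧ n = m0 + 2) := by
  cases t with
  | psp n =>
    change 5 ≤ n at hr
    have h0 : n % 2 = 1 := hII
    exact ⟨n, n - 1, by omega, by omega, show n = _ by omega, Or.inl ⟨Or.inl rfl, by omega⟩⟩
  | oodd n =>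
    change 5 ≤ n at hr
    have h0 : n % 2 = 1 := hII
    exact ⟨n, n - 1, by omega, by omega, show n = _ by omega, Or.inl ⟨Or.inr rfl, by omega⟩⟩
  | oplus n =>
    change 5 ≤ n at hr
    have h0 : n % 2 = 0 := hII
    refine ⟨n, n - 2, by omega, by omega, ?_, Or.inr ⟨rfl, by omega⟩⟩
    rw [dimL, if_pos h0]
    omega
  | _ => exact hII.elim

variable {t t' : Fam} {p f v f' : ℕ} {L : Type w} [Group L] [Finite L] {G : Type u} [Group G] [Finite G]
  {K : Subgroup G} [K.Normal] {S : Subgroup (G ⧸ K)} [S.Normal]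

/-- **The exotic family `IIA` does not occur**, if the third class is good. -/
theorem exo_iia' (h : LS t p f L G) (his : Fam.Is p f L t) (hF : Frm G K S t' v f') (hn5 : 5 ≤ rk t)
    {i j i' j' w H H' : ℕ} (D : Duel t p f i j t' v f' i' j' w H S)
    (hH' : ttor t (p ^ f) j = H' * ttor t' (v ^ f') j') (hE : ExoIIA t t' (v ^ f') i' j' H H')
    (hgood : ∀ z : ℕ, z.Prime → cls t (p ^ f) z = 2 * (dimL t - 1) → z ∣ Nat.card S) : False := by
  obtain ⟨m, hII, ht', hsm, rfl, hj', rfl, rfl⟩ := hE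
  obtain ⟨y, hy⟩ : ∃ y : ℤ, IsAA t' i' (v ^ f') y := by
    rcases ht' with ht | ht
    · exact ⟨_, Or.inl ⟨ht, rfl⟩⟩
    · exact ⟨_, Or.inr ⟨ht, rfl⟩⟩
  obtain ⟨n, m0, hm2, hm4, hD, hshape⟩ := fam_shape hII hn5
  have hf1 := h.fpos
  have hf1' := D.f'_pos
  have hp := h.prime
  have hvp := D.v_prime
  have hp3 : 3 ≤ p := by
    have := h.prime.two_le
    have := D.p_ne
    omega
  have hq3 : 3 ≤ p ^ f := hp3.trans (Nat.le_self_pow (by omega) p)
  have hq2 : p ^ f % 2 = 1 := Nat.odd_iff.1 ((hp.odd_of_ne_two D.p_ne).pow)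
  have hu2 : 2 ≤ v ^ f' := D.v_prime.two_le.trans (Nat.le_self_pow (by omega) _)
  have hyu := hy.abs_eq
  rw [hy.usg_eq (by omega)] at hsm
  have hM := D.eqM
  rw [hy.usg_eq (by omega)] at hM
  have hm' := hy.le hF.is
  obtain ⟨W1, W2⟩ := hy.val hm' hu2
  rw [Nat.gcd_eq_right hsm] at W1 W2
  obtain ⟨V1, V2⟩ := fam_val hII (by omega) hq3 hq2 D.pair
  rw [hD] at V1 V2
  obtain rfl : j' = i' - 1 := by omega
  have hMs : ttor t (p ^ f) i * (y - 1).natAbs = ua y i' := by rw [hM, ← W1]; ring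
  have hNs : ttor t (p ^ f) j * (y - 1).natAbs = y.natAbs * ua y (i' - 1) := by rw [hH', hyu, ← W2]; ring
  have hy2 : 2 ≤ y.natAbs := by omega
  obtain ⟨x, hx, heq⟩ := mk_eq hy2 (by omega) (by omega : (m0 + 1) % 2 = 1) hMs hNs V1
  -- the third class
  have hcl3 : 3 ≤ 2 * m0 := by omega
  obtain ⟨z, hz, hzc⟩ := exists_cls (t := t) (q := p ^ f) (i := 2 * m0) (by omega) hcl3 (by omega)
  have hzS := hgood z hz (by rw [hzc, hD]; rfl)
  have hzp : z ≠ p := by
    rintro rfl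
    exact (cls_facts hz (by rw [hzc]; exact hcl3)).2.1 (dvd_pow_self z (by omega))
  have hco : orderOf ((p ^ f : ℕ) : ZMod z) = 2 * m0 := by
    rw [← hzc]
    have h1 : ∀ k, t ≠ .psu k := by
      rintro k rfl
      exact hII.elim
    rw [cls_eq_co h1]
    rfl
  have hnot : ¬ z ∣ ttor t (p ^ f) i * ttor t (p ^ f) j := by
    intro hd
    have h1 : ((p ^ f : ℕ) : ZMod z) ^ (2 * (m0 + 1)) = 1 := by
      obtain ⟨c, hc⟩ := hd
      have h2 := congrArg (Nat.cast : ℕ → ZMod z) V2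
      rw [hc] at h2
      push_cast at h2
      rw [ZMod.natCast_self, zero_mul, mul_zero, zero_add] at h2
      push_cast
      exact h2.symm
    have h2 := orderOf_dvd_of_pow_eq_one h1
    rw [hco] at h2
    have h3 : m0 ∣ m0 + 1 := Nat.dvd_of_mul_dvd_mul_left (by norm_num) h2
    have h4 : m0 ∣ 1 := (Nat.dvd_add_right dvd_rfl).1 h3
    have := Nat.le_of_dvd (by norm_num) h4
    omega
  have hzM : ¬ z ∣ ttor t (p ^ f) i := fun hd => hnot (hd.mul_right _)
  have hzN : ¬ z ∣ ttor t (p ^ f) j := fun hd => hnot (hd.mul_left _)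
  have hzs : ¬ z ∣ (y - 1).natAbs := fun hd => hzM (hd.trans ⟨_, hM⟩)
  have hzu : ¬ z ∣ v := fun hd => hzN ((hd.trans (dvd_pow_self v (by omega))).trans ⟨_, hH'⟩)
  have hz1 : ¬ z ∣ ua y i' := by
    rw [← hMs, hz.dvd_mul, not_or]
    exact ⟨hzM, hzs⟩
  have hz2 : ¬ z ∣ ua y (i' - 1) := by
    intro hd
    have h1 : z ∣ ttor t (p ^ f) j * (y - 1).natAbs := by rw [hNs]; exact hd.mul_left _
    rcases hz.dvd_mul.1 h1 with h2 | h2
    · exact hzN h2
    · exact hzs h2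
  have hfz := Fact.mk hz
  obtain ⟨k, hk⟩ : ∃ k, k = cls t' (v ^ f') z := ⟨_, rfl⟩
  have hcd : ∀ a, z ∣ ua y a ↔ k ∣ a := fun a => by rw [hk, hy.cls_eq, dvd_ua_iff]
  rw [hcd] at hz1 hz2
  have hyz : ((y : ℤ) : ZMod z) ≠ 0 := by
    rw [Ne, ZMod.intCast_zmod_eq_zero_iff_dvd, Int.natCast_dvd, hy.abs_eq]
    exact fun hd => hzu (hz.dvd_of_dvd_pow hd)
  have hk1 : 1 ≤ k := by
    rw [hk, hy.cls_eq]
    exact orderOf_pos_iff.2 (isOfFinOrder_iff_pow_eq_one.2 ⟨z - 1, by have := hz.two_le; omega,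
      ZMod.pow_card_sub_one_eq_one hyz⟩)
  have hk3 : 3 ≤ k := by
    by_contra hcon
    rcases (show k = 1 ∨ k = 2 by omega) with h1 | h1
    · exact hz1 (by rw [h1]; exact one_dvd _)
    · rcases Nat.even_or_odd i' with h2 | h2
      · exact hz1 (by rw [h1]; exact h2.two_dvd)
      · exact hz2 (by rw [h1]; obtain ⟨c, hc⟩ := h2; omega)
  have hSF := adjFacts hF.cla hvp hF.is
  have hz5 := (cls_facts hz (by rw [hzc]; exact hcl3)).1
  have hmem := (hSF.dvd z hz (by omega) hzu (by rw [← hk]; exact hk3)).1 hzS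
  rw [← hk] at hmem
  have hkm := hy.mem_iff.1 hmem
  have hk2 : k + 2 ≤ i' := by
    have h1 : k ≠ i' := fun h0 => hz1 (by rw [h0])
    have h2 : k ≠ i' - 1 := fun h0 => hz2 (by rw [h0])
    omega
  have hzk : z ∣ ua y k := (hcd _).2 dvd_rfl
  have fin : ∀ N, (∃ g : S, orderOf g = N) → z ∣ N → TOK (p ^ f) m0 N := by
    intro N hN hzN
    obtain ⟨g, rfl⟩ := (h.ord N).1 (exists_of_S hN)
    exact third hshape hp D.p_ne his hm4 hz hzp hzN hzc
  have hT1 := fin _ (hy.tor_one hF.is (by omega) hk1 hk2) hzk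
  refine num_false (x := x) (y := y) (n := m0 + 1) (m := i') (k := k) (by rw [hx]; exact hq3) hy2 (by omega) (by omega) hk1 hk2 heq hsm ?_ ?_
  · rw [hx, Nat.add_sub_cancel]
    exact hT1.1
  · intro b hb hkb
    rw [hx, Nat.add_sub_cancel]
    exact (Nat.dvd_lcm_right (ua y k) _).trans
      (fin _ (hy.tor hF.is (by omega) hk1 hb hkb) (hzk.trans (Nat.dvd_lcm_left _ _))).2

/-- the ranks for which the third class is good -/
theorem good_third (h : LS t p f L G) (hR : Red G K S) (hF : Frm G K S t' v f') (hp2 : p ≠ 2) (hII : FamII t)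
    (hn : 5 ≤ rk t) (h6 : t ≠ .oplus 6) {z : ℕ} (hz : z.Prime) (hzc : cls t (p ^ f) z = 2 * (dimL t - 1)) :
    z ∣ Nat.card S := by
  have hq3 := h.q_three hp2
  cases t with
  | psp n =>
    change 5 ≤ n at hn
    have h0 : n % 2 = 1 := hII
    change cls _ _ _ = 2 * (n - 1) at hzc
    rcases Nat.lt_or_ge n 7 with h7 | h7
    · obtain rfl : n = 5 := by omega
      exact (h.good_small hR hF hq3 (i := 8) (by decide) hz hzc).2
    · have h1 := eta_two_mul' (n - 1)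
      exact (h.good_big hR hF h7 trivial (i := 2 * (n - 1)) ⟨by omega, show eta _ ≤ n by omega,
        show n < 2 * eta _ by omega⟩ hz hzc).2
  | oodd n =>
    change 5 ≤ n at hn
    have h0 : n % 2 = 1 := hII
    change cls _ _ _ = 2 * (n - 1) at hzc
    rcases Nat.lt_or_ge n 7 with h7 | h7
    · obtain rfl : n = 5 := by omega
      exact (h.good_small hR hF hq3 (i := 8) (by decide) hz hzc).2
    · have h1 := eta_two_mul' (n - 1)
      exact (h.good_big hR hF h7 trivial (i := 2 * (n - 1)) ⟨by omega, show eta _ ≤ n by omega,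
        show n < 2 * eta _ by omega⟩ hz hzc).2
  | oplus n =>
    change 5 ≤ n at hn
    have h0 : n % 2 = 0 := hII
    have hd : dimL (.oplus n) = n - 1 := by rw [dimL, if_pos h0]
    rw [hd] at hzc
    have h7 : 8 ≤ n := by
      by_contra hcon
      exact h6 (by rw [show n = 6 by omega])
    have h1 := eta_two_mul' (n - 1 - 1)
    exact (h.good_big hR hF (show 7 ≤ n by omega) trivial (i := 2 * (n - 1 - 1)) ⟨by omega,
      Or.inl (by omega), show n < 2 * eta _ by omega⟩ hz hzc).2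
  | _ => exact hII.elim

/-- **The exotic family `IIA` does not occur.** -/
theorem exo_iia (h : LS t p f L G) (his : Fam.Is p f L t) (hR : Red G K S) (hF : Frm G K S t' v f') (hn5 : 5 ≤ rk t)
    (h6 : t ≠ .oplus 6) {i j i' j' w H H' : ℕ} (D : Duel t p f i j t' v f' i' j' w H S)
    (hH' : ttor t (p ^ f) j = H' * ttor t' (v ^ f') j') (hE : ExoIIA t t' (v ^ f') i' j' H H') : False :=
  exo_iia' h his hF hn5 D hH' hE fun _ hz hzc => good_third h hR hF D.p_ne (by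
    obtain ⟨m, hII, -⟩ := hE
    exact hII) hn5 h6 hz hzc

end Cfsg.Agent.R2.Spec.IIA
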