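import Cfsg.Agent.R2.Spec.IIA.Root
import Cfsg.Agent.R2.Spec.AA.Num

/-!
# Packet EXO-IIA (S3435): the numbers (helper4)

`x = ± q`, `y = ± u`, `x ^ n * (y - 1) = 2 * y ^ m - y - 1`, `y - 1 ∣ m`; a third class `k`.
-/

set_option autoImplicit false

namespace Cfsg.Agent.R2.Spec.IIA

open Cfsg.Agent.R2.Spec.X7 (ua)
open Cfsg.Agent.R2.Spec.AA (two_ua le_ua natAbs_pow_le)

/-! ### least common multiples -/

/-- products -/
def pr (a : ℕ → ℕ) : ℕ → ℕ
  | 0 => 1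
  | n + 1 => pr a n * a n

/-- the product of the greatest common divisors with `c` -/
def pg (a : ℕ → ℕ) (c : ℕ) : ℕ → ℕ
  | 0 => 1
  | n + 1 => pg a c n * Nat.gcd (a n) c

/-- the product of the greatest common divisors of the pairs -/
def pp (a : ℕ → ℕ) : ℕ → ℕ
  | 0 => 1
  | n + 1 => pp a n * pg a (a n) n

/-- the least common multiple -/
def pl (a : ℕ → ℕ) : ℕ → ℕ
  | 0 => 1
  | n + 1 => Nat.lcm (pl a n) (a n)

theorem pl_dvd_pr (a : ℕ → ℕ) (n : ℕ) : pl a n ∣ pr a n := by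
  induction n with
  | zero => exact dvd_rfl
  | succ n ih => exact Nat.lcm_dvd (ih.mul_right _) (dvd_mul_left _ _)

theorem pl_dvd (a : ℕ → ℕ) {n X : ℕ} (h : ∀ i < n, a i ∣ X) : pl a n ∣ X := by
  induction n with
  | zero => exact one_dvd _
  | succ n ih => exact Nat.lcm_dvd (ih fun i hi => h i (by omega)) (h n (by omega))

theorem gcd_pr_dvd (a : ℕ → ℕ) (c n : ℕ) : Nat.gcd (pr a n) c ∣ pg a c n := by
  induction n with
  | zero => rw [pr, Nat.gcd_one_left]; exact one_dvd _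
  | succ n ih =>
    rw [pr, pg, Nat.gcd_comm]
    refine (Nat.gcd_mul_right_dvd_mul_gcd c (pr a n) (a n)).trans ?_
    rw [Nat.gcd_comm c, Nat.gcd_comm c]
    exact Nat.mul_dvd_mul ih dvd_rfl

theorem pr_dvd_pl (a : ℕ → ℕ) (n : ℕ) : pr a n ∣ pl a n * pp a n := by
  induction n with
  | zero => exact dvd_rfl
  | succ n ih =>
    rw [pr, pl, pp]
    have h1 : Nat.gcd (pl a n) (a n) ∣ pg a (a n) n :=
      (Nat.gcd_dvd_gcd_of_dvd_left _ (pl_dvd_pr a n)).trans (gcd_pr_dvd a (a n) n)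
    calc pr a n * a n ∣ (pl a n * pp a n) * a n := Nat.mul_dvd_mul ih dvd_rfl
      _ = (Nat.gcd (pl a n) (a n) * Nat.lcm (pl a n) (a n)) * pp a n := by rw [Nat.gcd_mul_lcm]; ring
      _ ∣ (pg a (a n) n * Nat.lcm (pl a n) (a n)) * pp a n := Nat.mul_dvd_mul (Nat.mul_dvd_mul h1 dvd_rfl) dvd_rfl
      _ = Nat.lcm (pl a n) (a n) * (pp a n * pg a (a n) n) := by ring

theorem pr_dvd (a : ℕ → ℕ) {n X : ℕ} (h : ∀ i < n, a i ∣ X) : pr a n ∣ X * pp a n :=
  (pr_dvd_pl a n).trans (Nat.mul_dvd_mul (pl_dvd a h) dvd_rfl)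

/-- the sum of the greatest common divisors of the pairs -/
def sg1 (c n : ℕ) : ℕ → ℕ
  | 0 => 0
  | i + 1 => sg1 c n i + Nat.gcd (c + i) (n - i)

def sg2 (c : ℕ) : ℕ → ℕ
  | 0 => 0
  | n + 1 => sg2 c n + sg1 c n n

theorem sg1_mod (c n j : ℕ) (hn : n ≤ 8) (hj : j ≤ n) : sg1 c n j = sg1 (c % 840) n j := by
  induction j with
  | zero => rfl
  | succ j ih =>
    rw [sg1, sg1, ih (by omega)]
    congr 1
    have h1 : n - j ∣ 840 := by
      have h2 : n - j ≤ 8 := by omega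
      have h3 : 1 ≤ n - j := by omega
      generalize n - j = e at h2 h3
      interval_cases e <;> norm_num
    have h2 : c + j ≡ c % 840 + j [MOD (n - j)] := ((Nat.mod_modEq c 840).symm.of_dvd h1).add_right j
    rw [Nat.gcd_comm, Nat.gcd_comm (c % 840 + j)]
    rw [Nat.gcd_rec (n - j) (c + j), Nat.gcd_rec (n - j) (c % 840 + j), h2]

theorem sg2_mod (c n : ℕ) (hn : n ≤ 9) : sg2 c n = sg2 (c % 840) n := by
  induction n with
  | zero => rfl
  | succ n ih => rw [sg2, sg2, ih (by omega), sg1_mod c n n (by omega) le_rfl]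

theorem sg2_chk : ((List.range 840).all fun c => Nat.ble (sg2 c 9) 74) = true := by decide +kernel

theorem sg2_le (c : ℕ) : sg2 c 9 ≤ 74 := by
  rw [sg2_mod c 9 le_rfl]
  exact Nat.le_of_ble_eq_true (List.all_eq_true.1 sg2_chk _ (List.mem_range.2 (Nat.mod_lt _ (by norm_num))))

/-! ### the numbers `|y ^ b - 1|` -/

theorem gcd_ua (y : ℤ) (a b : ℕ) : Nat.gcd (ua y a) (ua y b) ∣ ua y (Nat.gcd a b) := by
  rw [Cfsg.Agent.R2.Spec.P1.dvd_ua_iff]
  exact Nat.dvd_gcd (Cfsg.Agent.R2.Spec.P1.dvd_ua_iff.1 (Nat.gcd_dvd_left _ _))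
    (Cfsg.Agent.R2.Spec.P1.dvd_ua_iff.1 (Nat.gcd_dvd_right _ _))

theorem ua_pos {y : ℤ} (hy : 2 ≤ y.natAbs) {b : ℕ} (hb : 1 ≤ b) : 0 < ua y b := by
  have h1 := two_ua hy hb
  have h2 : 1 ≤ y.natAbs ^ b := Nat.one_le_pow _ _ (by omega)
  omega

theorem two_ua_le {y : ℤ} (hy : 2 ≤ y.natAbs) {g : ℕ} (hg : 1 ≤ g) : 2 * ua y g ≤ 3 * y.natAbs ^ g := by
  have h1 := natAbs_pow_le y g
  have h2 : 2 ≤ y.natAbs ^ g := hy.trans (Nat.le_self_pow (by omega) _)
  omega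

section

variable {y : ℤ} (hy : 2 ≤ y.natAbs) {c : ℕ} (hc : 1 ≤ c)
include hy hc

theorem pr_low (n : ℕ) : y.natAbs ^ (c * n + n * (n - 1) / 2) ≤ 2 ^ n * pr (fun i => ua y (c + i)) n := by
  induction n with
  | zero => simp [pr]
  | succ n ih =>
    rw [pr]
    have h1 := two_ua hy (b := c + n) (by omega)
    have h2 : c * (n + 1) + (n + 1) * (n + 1 - 1) / 2 = c * n + n * (n - 1) / 2 + (c + n) := by
      have h3 : (n + 1) * (n + 1 - 1) / 2 = n * (n - 1) / 2 + n := by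
        rw [Nat.add_sub_cancel]
        rcases n with _ | n
        · rfl
        · rw [Nat.add_sub_cancel, show (n + 1 + 1) * (n + 1) = (n + 1) * n + (n + 1) * 2 by ring,
            Nat.add_mul_div_right _ _ (by norm_num)]
      rw [h3]
      ring
    rw [h2, pow_add]
    calc _ ≤ (2 ^ n * pr (fun i => ua y (c + i)) n) * (2 * ua y (c + n)) := Nat.mul_le_mul ih h1
      _ = _ := by ring

theorem pg_up (n j : ℕ) (hj : j ≤ n) : 2 ^ j * pg (fun i => ua y (c + i)) (ua y (c + n)) j ≤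
    3 ^ j * y.natAbs ^ sg1 c n j := by
  induction j with
  | zero => simp [pg, sg1]
  | succ j ih =>
    rw [pg, sg1]
    have h1 : Nat.gcd (c + j) (c + n) = Nat.gcd (c + j) (n - j) := by
      have : c + n = (c + j) + (n - j) := by omega
      rw [this, Nat.gcd_self_add_right]
    have h2 : 1 ≤ Nat.gcd (c + j) (n - j) := Nat.gcd_pos_of_pos_left _ (by omega)
    have h3 : Nat.gcd (ua y (c + j)) (ua y (c + n)) ≤ ua y (Nat.gcd (c + j) (n - j)) := by
      rw [← h1]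
      exact Nat.le_of_dvd (ua_pos hy (by rw [h1]; exact h2)) (gcd_ua y _ _)
    have h4 := two_ua_le hy h2
    calc 2 ^ (j + 1) * (pg (fun i => ua y (c + i)) (ua y (c + n)) j * Nat.gcd (ua y (c + j)) (ua y (c + n)))
        = (2 ^ j * pg (fun i => ua y (c + i)) (ua y (c + n)) j) * (2 * Nat.gcd (ua y (c + j)) (ua y (c + n))) := by ring
      _ ≤ (3 ^ j * y.natAbs ^ sg1 c n j) * (3 * y.natAbs ^ Nat.gcd (c + j) (n - j)) :=
        Nat.mul_le_mul (ih (by omega)) ((Nat.mul_le_mul_left 2 h3).trans h4)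
      _ = 3 ^ (j + 1) * y.natAbs ^ (sg1 c n j + Nat.gcd (c + j) (n - j)) := by rw [pow_add, pow_succ]; ring

theorem pp_up (n : ℕ) : 2 ^ (n * (n - 1) / 2) * pp (fun i => ua y (c + i)) n ≤
    3 ^ (n * (n - 1) / 2) * y.natAbs ^ sg2 c n := by
  induction n with
  | zero => simp [pp, sg2]
  | succ n ih =>
    have h3 : (n + 1) * (n + 1 - 1) / 2 = n * (n - 1) / 2 + n := by
      rw [Nat.add_sub_cancel]
      rcases n with _ | n
      · rfl
      · rw [Nat.add_sub_cancel, show (n + 1 + 1) * (n + 1) = (n + 1) * n + (n + 1) * 2 by ring,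
          Nat.add_mul_div_right _ _ (by norm_num)]
    rw [pp, sg2, h3]
    have h1 := pg_up hy hc n n le_rfl
    calc 2 ^ (n * (n - 1) / 2 + n) * (pp (fun i => ua y (c + i)) n * pg (fun i => ua y (c + i)) (ua y (c + n)) n)
        = (2 ^ (n * (n - 1) / 2) * pp (fun i => ua y (c + i)) n) *
          (2 ^ n * pg (fun i => ua y (c + i)) (ua y (c + n)) n) := by rw [pow_add]; ring
      _ ≤ (3 ^ (n * (n - 1) / 2) * y.natAbs ^ sg2 c n) * (3 ^ n * y.natAbs ^ sg1 c n n) := Nat.mul_le_mul ih h1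
      _ = 3 ^ (n * (n - 1) / 2 + n) * y.natAbs ^ (sg2 c n + sg1 c n n) := by rw [pow_add, pow_add]; ring

/-- **Nine consecutive numbers.** -/
theorem nine {X E : ℕ} (hX : 0 < X) (hXE : X ≤ 9 * y.natAbs ^ E) (h : ∀ i < 9, ua y (c + i) ∣ X) : 9 * c + 2 ≤ 74 + E := by
  have h1 := pr_low hy hc 9
  have h2 := pp_up hy hc 9
  have h3 := pr_dvd (fun i => ua y (c + i)) h
  have hpp : 0 < pp (fun i => ua y (c + i)) 9 := by
    rcases Nat.eq_zero_or_pos (pp (fun i => ua y (c + i)) 9) with h0 | h0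
    · exfalso
      have h4 : ∀ n, 0 < pr (fun i => ua y (c + i)) n := by
        intro n
        induction n with
        | zero => exact Nat.one_pos
        | succ n ih => exact Nat.mul_pos ih (ua_pos hy (by omega))
      have hpg : ∀ n j, 0 < pg (fun i => ua y (c + i)) (ua y (c + n)) j := by
        intro n j
        induction j with
        | zero => exact Nat.one_pos
        | succ j ih => exact Nat.mul_pos ih (Nat.gcd_pos_of_pos_left _ (ua_pos hy (by omega)))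
      have hpp : ∀ n, 0 < pp (fun i => ua y (c + i)) n := by
        intro n
        induction n with
        | zero => exact Nat.one_pos
        | succ n ih => exact Nat.mul_pos ih (hpg _ _)
      have := hpp 9
      omega
    · exact h0
  have h4 := Nat.le_of_dvd (Nat.mul_pos hX hpp) h3
  norm_num at h1 h2
  have h5 := sg2_le c
  have h6 : y.natAbs ^ sg2 c 9 ≤ y.natAbs ^ 74 := Nat.pow_le_pow_right (by omega) h5
  have h7 : 2 ^ 36 * y.natAbs ^ (c * 9 + 36) ≤ 2 ^ 9 * 9 * 3 ^ 36 * y.natAbs ^ (74 + E) := by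
    calc 2 ^ 36 * y.natAbs ^ (c * 9 + 36) ≤ 2 ^ 36 * (2 ^ 9 * pr (fun i => ua y (c + i)) 9) :=
        Nat.mul_le_mul_left _ (by norm_num; exact h1)
      _ ≤ 2 ^ 36 * (2 ^ 9 * (X * pp (fun i => ua y (c + i)) 9)) :=
        Nat.mul_le_mul_left _ (Nat.mul_le_mul_left _ h4)
      _ = 2 ^ 9 * X * (2 ^ 36 * pp (fun i => ua y (c + i)) 9) := by ring
      _ ≤ 2 ^ 9 * (9 * y.natAbs ^ E) * (3 ^ 36 * y.natAbs ^ 74) :=
        Nat.mul_le_mul (Nat.mul_le_mul_left _ hXE) (le_trans (by norm_num; exact h2) (Nat.mul_le_mul_left _ h6))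
      _ = _ := by rw [pow_add]; ring
  have h8 : 2 ^ 9 * 9 * 3 ^ 36 ≤ 2 ^ 36 * y.natAbs ^ 34 := by
    calc 2 ^ 9 * 9 * 3 ^ 36 ≤ 2 ^ 36 * 2 ^ 34 := by norm_num
      _ ≤ _ := Nat.mul_le_mul_left _ (Nat.pow_le_pow_left hy 34)
  have h9 : 2 ^ 36 * y.natAbs ^ (c * 9 + 36) ≤ 2 ^ 36 * y.natAbs ^ (34 + (74 + E)) := by
    rw [pow_add y.natAbs 34]
    calc 2 ^ 36 * y.natAbs ^ (c * 9 + 36) ≤ _ := h7
      _ ≤ (2 ^ 36 * y.natAbs ^ 34) * y.natAbs ^ (74 + E) := Nat.mul_le_mul_right _ h8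
      _ = _ := by ring
  have h10 := Nat.le_of_mul_le_mul_left h9 (by norm_num)
  have h11 := (Nat.pow_le_pow_iff_right (show 1 < y.natAbs by omega)).1 h10
  omega

end

/-! ### the equation -/

variable {x y : ℤ} {n m k : ℕ}

/-- the two signs -/
theorem abs_cases (hy : 2 ≤ y.natAbs) (hm : 1 ≤ m) (heq : x ^ n * (y - 1) = 2 * y ^ m - y - 1) :
    ∃ u : ℕ, y.natAbs = u ∧ 2 ≤ u ∧
      (((y - 1).natAbs = u - 1 ∧ x.natAbs ^ n = VP m u ∧ x.natAbs ^ n * (u - 1) + u + 1 = 2 * u ^ m) ∨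
        ((y - 1).natAbs = u + 1 ∧ x.natAbs ^ n = VM m u ∧
          ((m % 2 = 0 ∧ x.natAbs ^ n * (u + 1) + 1 = 2 * u ^ m + u) ∨
            (m % 2 = 1 ∧ x.natAbs ^ n * (u + 1) + u = 2 * u ^ m + 1)))) := by
  have h1 : x.natAbs ^ n * (y - 1).natAbs = (2 * y ^ m - y - 1).natAbs := by
    rw [← heq, Int.natAbs_mul, Int.natAbs_pow]
  refine ⟨y.natAbs, rfl, hy, ?_⟩
  obtain ⟨u, hu⟩ : ∃ u, u = y.natAbs := ⟨_, rfl⟩
  rw [← hu] at hy ⊢
  have hum : u ≤ u ^ m := Nat.le_self_pow (by omega) _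
  rcases Int.natAbs_eq y with hyy | hyy <;> rw [← hu] at hyy <;> subst hyy
  · left
    have h2 : (((u : ℤ)) - 1).natAbs = u - 1 := by omega
    have h3 : (2 * (u : ℤ) ^ m - u - 1).natAbs = 2 * u ^ m - u - 1 := by
      have : (u : ℤ) ^ m = ((u ^ m : ℕ) : ℤ) := by push_cast; rfl
      rw [this]
      omega
    rw [h2, h3] at h1
    refine ⟨h2, ?_, by omega⟩
    rw [VP, ← h1, Nat.mul_div_cancel _ (by omega)]
  · right
    have h2 : ((-(u : ℤ)) - 1).natAbs = u + 1 := by omega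
    rw [h2] at h1
    rcases Nat.even_or_odd m with hm2 | hm2
    · have h3 : (2 * (-(u : ℤ)) ^ m - -(u : ℤ) - 1).natAbs = 2 * u ^ m + u - 1 := by
        have : (-(u : ℤ)) ^ m = ((u ^ m : ℕ) : ℤ) := by rw [hm2.neg_pow]; push_cast; rfl
        rw [this]
        omega
      rw [h3] at h1
      have h4 := Nat.even_iff.1 hm2
      refine ⟨h2, ?_, Or.inl ⟨h4, by omega⟩⟩
      rw [VM, if_pos h4, ← h1, Nat.mul_div_cancel _ (by omega)]
    · have h3 : (2 * (-(u : ℤ)) ^ m - -(u : ℤ) - 1).natAbs = 2 * u ^ m + 1 - u := by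
        have : (-(u : ℤ)) ^ m = -((u ^ m : ℕ) : ℤ) := by rw [hm2.neg_pow]; push_cast; rfl
        rw [this]
        omega
      rw [h3] at h1
      have h4 := Nat.odd_iff.1 hm2
      refine ⟨h2, ?_, Or.inr ⟨h4, by omega⟩⟩
      rw [VM, if_neg (by omega), ← h1, Nat.mul_div_cancel _ (by omega)]

/-- the size of `q ^ n` -/
theorem size_q (hy : 2 ≤ y.natAbs) (hm : 1 ≤ m) (heq : x ^ n * (y - 1) = 2 * y ^ m - y - 1) :
    x.natAbs ^ n ≤ y.natAbs ^ (m + 1) := by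
  obtain ⟨u, hu, hu2, h | h⟩ := abs_cases hy hm heq
  · rw [hu]
    obtain ⟨-, -, h1⟩ := h
    generalize x.natAbs ^ n = V at h1 ⊢
    rcases Nat.lt_or_ge u 3 with h3 | h3
    · obtain rfl : u = 2 := by omega
      rw [pow_succ]
      omega
    · by_contra hcon
      have h4 : u ^ m * 2 ≤ u ^ (m + 1) := by rw [pow_succ]; exact Nat.mul_le_mul_left _ (by omega)
      have h5 : V * 2 ≤ V * (u - 1) := Nat.mul_le_mul_left _ (by omega)
      omega
  · rw [hu]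
    obtain ⟨-, -, h1⟩ := h
    generalize x.natAbs ^ n = V at h1 ⊢
    by_contra hcon
    have h4 : u ^ m * 2 ≤ u ^ (m + 1) := by rw [pow_succ]; exact Nat.mul_le_mul_left _ (by omega)
    have h5 : V * 1 ≤ V * u := Nat.mul_le_mul_left _ (by omega)
    have h6 : V * (u + 1) = V * u + V := by ring
    have h7 : u ≤ V * u := Nat.le_mul_of_pos_left _ (by omega)
    omega

/-- the case zero -/
theorem rho_ne {e : ℕ} (hy : 2 ≤ y.natAbs) (hn : n % 2 = 1) (hm : 2 ≤ m) (he : 2 ≤ e)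
    (heq : x ^ n * (y - 1) = 2 * y ^ m - y - 1) : 4 * y ^ e + (2 * x - 2) * y - (2 * x + 2) ≠ 0 := by
  intro h0
  have h1 : 2 * y ^ e + (x - 1) * y - (x + 1) = 0 := by linarith
  have hye : y ∣ y ^ e := dvd_pow_self y (by omega)
  have hym : y ∣ y ^ m := dvd_pow_self y (by omega)
  have h2 : y ∣ x + 1 := by
    have h3 : x + 1 = 2 * y ^ e + (x - 1) * y := by linarith
    rw [h3]
    exact dvd_add (hye.mul_left _) (dvd_mul_left _ _)
  have hodd : Odd n := Nat.odd_iff.2 hn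
  have h3 : y ∣ x ^ n + 1 := by
    have h4 : x + 1 ∣ x ^ n + 1 ^ n := hodd.add_dvd_pow_add_pow x 1
    rw [one_pow] at h4
    exact h2.trans h4
  have h4 : y ∣ x ^ n - 1 := by
    have h5 : x ^ n - 1 = x ^ n * y - 2 * y ^ m + y := by linarith
    rw [h5]
    exact dvd_add (dvd_sub (dvd_mul_left _ _) (hym.mul_left _)) dvd_rfl
  have h5 : y ∣ 2 := by
    have := dvd_sub h3 h4
    rwa [show x ^ n + 1 - (x ^ n - 1) = 2 by ring] at this
  have h6 : y.natAbs ≤ 2 := Nat.le_of_dvd (by norm_num) (Int.natAbs_dvd_natAbs.2 h5)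
  have h7 : (4 : ℤ) ∣ y ^ e := by
    have h8 : (4 : ℤ) ∣ y ^ 2 := by
      rcases (show y = 2 ∨ y = -2 by omega) with rfl | rfl <;> norm_num
    exact h8.trans (pow_dvd_pow y he)
  have h7' : (4 : ℤ) ∣ y ^ m := by
    have h8 : (4 : ℤ) ∣ y ^ 2 := by
      rcases (show y = 2 ∨ y = -2 by omega) with rfl | rfl <;> norm_num
    exact h8.trans (pow_dvd_pow y hm)
  obtain ⟨c, hc⟩ := h7
  obtain ⟨d, hd⟩ := h7'
  -- `x = 3` modulo `4`, hence `x ^ n = 3`
  have h8 : x % 4 = 3 := by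
    rcases (show y = 2 ∨ y = -2 by omega) with rfl | rfl
    · omega
    · omega
  have h9 : x ^ n % 4 = 3 := by
    have h10 : x ≡ -1 [ZMOD 4] := by
      show x % 4 = -1 % 4
      rw [h8]; rfl
    have h11 := h10.pow n
    rw [hodd.neg_one_pow] at h11
    exact h11
  rcases (show y = 2 ∨ y = -2 by omega) with rfl | rfl
  · omega
  · omega

/-- **The bound for the third class.** -/
theorem k_bound {K' A : ℕ} (hx3 : 3 ≤ x.natAbs) (hy : 2 ≤ y.natAbs) (hn : n % 2 = 1) (hk : 1 ≤ k)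
    (hkm : k + 2 ≤ m) (heq : x ^ n * (y - 1) = 2 * y ^ m - y - 1) (hA : x.natAbs + 1 ≤ y.natAbs ^ A) (hK0 : 0 < K')
    (hK : K' ≤ (x.natAbs + 1) ^ 2) (hT : ua y k ∣ K' * (x.natAbs * (x.natAbs ^ (n - 1) + 1))) :
    2 * k ≤ m + 2 * A + 4 ∨ k ≤ 3 * A + 5 := by
  obtain ⟨e, rfl⟩ : ∃ e, m = k + e := ⟨m - k, by omega⟩
  have hev : Even (n - 1) := by rw [Nat.even_iff]; omega
  have h1 : y ^ k - 1 ∣ (K' : ℤ) * (x * (x ^ (n - 1) + 1)) := by
    apply Int.natAbs_dvd_natAbs.1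
    have h2 : (x * (x ^ (n - 1) + 1)).natAbs = x.natAbs * (x.natAbs ^ (n - 1) + 1) := by
      rw [Int.natAbs_mul]
      congr 1
      have h3 : x ^ (n - 1) = ((x.natAbs ^ (n - 1) : ℕ) : ℤ) := by
        push_cast
        rw [hev.pow_abs]
      rw [h3]
      omega
    rw [Int.natAbs_mul, h2, Int.natAbs_natCast]
    exact hT
  have hxn : x ^ n = x * x ^ (n - 1) := by rw [← pow_succ']; congr 1; omega
  have h2 : y ^ k - 1 ∣ (K' : ℤ) * (4 * y ^ e + (2 * x - 2) * y - (2 * x + 2)) := by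
    have h3 : (K' : ℤ) * (4 * y ^ e + (2 * x - 2) * y - (2 * x + 2)) =
        2 * (y - 1) * ((K' : ℤ) * (x * (x ^ (n - 1) + 1))) - (y ^ k - 1) * (4 * K' * y ^ e) := by
      rw [hxn, pow_add] at heq
      linear_combination (-2 * (K' : ℤ)) * heq
    rw [h3]
    exact dvd_sub (h1.mul_left _) (dvd_mul_right _ _)
  have h3 := rho_ne (e := e) hy hn (by omega) (by omega) heq
  have h4 := Nat.le_of_dvd (Int.natAbs_pos.2 (mul_ne_zero (by exact_mod_cast hK0.ne') h3)) (Int.natAbs_dvd_natAbs.2 h2)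
  rw [Int.natAbs_mul, Int.natAbs_natCast] at h4
  have h5 : (4 * y ^ e + (2 * x - 2) * y - (2 * x + 2)).natAbs ≤
      4 * y.natAbs ^ e + (2 * (x.natAbs + 1)) * (y.natAbs + 1) := by
    have h6 := Int.natAbs_sub_le (4 * y ^ e + (2 * x - 2) * y) (2 * x + 2)
    have h7 := Int.natAbs_add_le (4 * y ^ e) ((2 * x - 2) * y)
    rw [Int.natAbs_mul, Int.natAbs_mul, Int.natAbs_pow] at h7
    have h8 : (2 * x - 2).natAbs ≤ 2 * (x.natAbs + 1) := by omega
    have h9 : (2 * x + 2).natAbs ≤ 2 * (x.natAbs + 1) := by omega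
    have h10 : (2 * x - 2).natAbs * y.natAbs ≤ 2 * (x.natAbs + 1) * y.natAbs := Nat.mul_le_mul_right _ h8
    have h11 : (4 : ℤ).natAbs = 4 := rfl
    rw [h11] at h7
    have h12 : 2 * (x.natAbs + 1) * (y.natAbs + 1) = 2 * (x.natAbs + 1) * y.natAbs + 2 * (x.natAbs + 1) := by ring
    omega
  have h6 := two_ua hy hk
  rw [ua] at h6
  obtain ⟨u, hu⟩ : ∃ u, u = y.natAbs := ⟨_, rfl⟩
  rw [← hu] at h5 h6 hA hy
  obtain ⟨B, hB⟩ : ∃ B, B = max e (A + 1) := ⟨_, rfl⟩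
  have h7 : u ^ e ≤ u ^ B := Nat.pow_le_pow_right (by omega) (by omega)
  have h8 : u ^ (A + 1) ≤ u ^ B := Nat.pow_le_pow_right (by omega) (by omega)
  have h9 : (2 * (x.natAbs + 1)) * (u + 1) ≤ 4 * u ^ (A + 1) := by
    calc (2 * (x.natAbs + 1)) * (u + 1) ≤ (2 * u ^ A) * (2 * u) := Nat.mul_le_mul (by omega) (by omega)
      _ = _ := by rw [pow_succ]; ring
  have h10 : (4 * y ^ e + (2 * x - 2) * y - (2 * x + 2)).natAbs ≤ 8 * u ^ B := by omega
  have h11 : K' ≤ u ^ (2 * A) := by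
    refine hK.trans ?_
    rw [mul_comm 2 A, pow_mul]
    exact Nat.pow_le_pow_left hA 2
  have h12 : u ^ k ≤ u ^ (4 + (2 * A + B)) := by
    calc u ^ k ≤ 2 * (K' * (4 * y ^ e + (2 * x - 2) * y - (2 * x + 2)).natAbs) := by omega
      _ ≤ 2 * (u ^ (2 * A) * (8 * u ^ B)) := Nat.mul_le_mul_left _ (Nat.mul_le_mul h11 h10)
      _ = 2 ^ 4 * (u ^ (2 * A) * u ^ B) := by ring
      _ ≤ u ^ 4 * (u ^ (2 * A) * u ^ B) := Nat.mul_le_mul_right _ (Nat.pow_le_pow_left hy 4)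
      _ = _ := by rw [pow_add, pow_add]
  have h13 := (Nat.pow_le_pow_iff_right (show 1 < u by omega)).1 h12
  omega

/-- **There is no third class.** -/
theorem num_false (hx3 : 3 ≤ x.natAbs) (hy : 2 ≤ y.natAbs) (hn : n % 2 = 1) (hn5 : 5 ≤ n)
    (hk : 1 ≤ k) (hkm : k + 2 ≤ m) (heq : x ^ n * (y - 1) = 2 * y ^ m - y - 1) (hs : (y - 1).natAbs ∣ m)
    (hU : ∃ K', 0 < K' ∧ K' ≤ (x.natAbs + 1) ^ 2 ∧ ua y k ∣ K' * (x.natAbs * (x.natAbs ^ (n - 1) + 1)))
    (hB : ∀ b, 1 ≤ b → k + b + 2 ≤ m →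
      ua y b ∣ 9 * (x.natAbs * ((x.natAbs ^ 4 - 1) * (x.natAbs ^ (n - 1) + 1)))) : False := by
  obtain ⟨K', hK0, hK, hT⟩ := hU
  obtain ⟨q, hq⟩ : ∃ q, q = x.natAbs := ⟨_, rfl⟩
  -- the exponent
  obtain ⟨A, hA1, hA2, hA3⟩ : ∃ A, 1 ≤ A ∧ y.natAbs ^ (A - 1) ≤ q ∧ q + 1 ≤ y.natAbs ^ A := by
    refine ⟨Nat.log y.natAbs q + 1, by omega, ?_, ?_⟩
    · rw [Nat.add_sub_cancel]
      exact Nat.pow_log_le_self _ (by omega)
    · exact Nat.lt_pow_succ_log_self (by omega) q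
  have hsz := size_q hy (by omega) heq
  rw [← hq] at hsz
  have hnA : n * (A - 1) ≤ m + 1 := by
    have h1 : y.natAbs ^ (n * (A - 1)) ≤ y.natAbs ^ (m + 1) := by
      rw [mul_comm, pow_mul]
      exact (Nat.pow_le_pow_left hA2 n).trans hsz
    exact (Nat.pow_le_pow_iff_right (show 1 < y.natAbs by omega)).1 h1
  have hk1 := k_bound hx3 hy hn hk hkm heq (A := A) (by rw [← hq]; exact hA3) hK0 hK hT
  have h5A : 5 * (A - 1) ≤ n * (A - 1) := Nat.mul_le_mul_right _ hn5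
  -- the window
  have hwin : k + 11 ≤ m → 8 * m ≤ 9 * k + 4 * A + 163 := by
    intro hm
    obtain ⟨c, hc⟩ : ∃ c, m = k + 10 + c := ⟨m - k - 10, by omega⟩
    have h1 : 9 * (x.natAbs * ((x.natAbs ^ 4 - 1) * (x.natAbs ^ (n - 1) + 1))) ≤ 9 * y.natAbs ^ (m + 1 + 4 * A) := by
      rw [← hq]
      apply Nat.mul_le_mul_left
      have h2 : 1 ≤ q ^ 4 := Nat.one_le_pow _ _ (by omega)
      have h3 : q ^ 4 ≤ q ^ (n - 1) := Nat.pow_le_pow_right (by omega) (by omega)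
      have h4 : (q ^ 4 - 1) * (q ^ (n - 1) + 1) ≤ q ^ 4 * q ^ (n - 1) := by
        obtain ⟨a, ha⟩ : ∃ a, q ^ 4 = a + 1 := ⟨q ^ 4 - 1, by omega⟩
        rw [ha, Nat.add_sub_cancel]
        have : (a + 1) * q ^ (n - 1) = a * q ^ (n - 1) + q ^ (n - 1) := by ring
        have : a * (q ^ (n - 1) + 1) = a * q ^ (n - 1) + a := by ring
        omega
      have h5 : q * q ^ (n - 1) = q ^ n := by rw [← pow_succ']; congr 1; omega
      calc q * ((q ^ 4 - 1) * (q ^ (n - 1) + 1)) ≤ q * (q ^ 4 * q ^ (n - 1)) := Nat.mul_le_mul_left _ h4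
        _ = q ^ n * q ^ 4 := by rw [← h5]; ring
        _ ≤ y.natAbs ^ (m + 1) * (y.natAbs ^ A) ^ 4 := Nat.mul_le_mul hsz (Nat.pow_le_pow_left (by omega) 4)
        _ = _ := by rw [← pow_mul, ← pow_add, mul_comm A 4]
    have h2 := nine (y := y) hy (c := c) (by omega)
      (X := 9 * (x.natAbs * ((x.natAbs ^ 4 - 1) * (x.natAbs ^ (n - 1) + 1)))) (E := m + 1 + 4 * A) (by
        have h3 : 2 ≤ x.natAbs ^ 4 := le_trans (by omega) (Nat.le_self_pow (by norm_num) x.natAbs)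
        have h4 : 0 < x.natAbs ^ 4 - 1 := by omega
        exact Nat.mul_pos (by norm_num) (Nat.mul_pos (by omega) (Nat.mul_pos h4 (Nat.succ_pos _)))) h1
      (fun i hi => hB _ (by omega) (by omega))
    omega
  have h7 : n = 5 ∨ n = 7 ∨ 9 ≤ n := by omega
  have hbd : (n = 5 ∧ m < 225) ∨ (n = 7 ∧ m < 125) ∨ (9 ≤ n ∧ m < 105) := by
    rcases h7 with rfl | rfl | h9
    · left
      refine ⟨rfl, ?_⟩
      rcases Nat.lt_or_ge m (k + 11) with h | h
      · omega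
      · have := hwin h
        omega
    · right; left
      refine ⟨rfl, ?_⟩
      rcases Nat.lt_or_ge m (k + 11) with h | h
      · omega
      · have := hwin h
        omega
    · right; right
      refine ⟨h9, ?_⟩
      have h9A : 9 * (A - 1) ≤ n * (A - 1) := Nat.mul_le_mul_right _ h9
      rcases Nat.lt_or_ge m (k + 11) with h | h
      · omega
      · have := hwin h
        omega
  obtain ⟨u, hu, hu2, hcase⟩ := abs_cases hy (by omega) heq
  have hsm : (y - 1).natAbs ≤ m := Nat.le_of_dvd (by omega) hs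
  refine fin_check (V := x.natAbs ^ n) hn hn5 (by omega : 2 ≤ m) hx3 hu2 ?_ ?_ rfl hbd
  · rcases hcase with h | h <;> omega
  · rcases hcase with ⟨h1, h2, -⟩ | ⟨h1, h2, -⟩
    · exact Or.inl ⟨h1 ▸ hs, h2⟩
    · exact Or.inr ⟨h1 ▸ hs, h2⟩

/-- the equation from the two numbers -/
theorem mk_eq {M N q : ℕ} (hy : 2 ≤ y.natAbs) (hm : 1 ≤ m) (hn : n % 2 = 1)
    (hM : M * (y - 1).natAbs = ua y m) (hN : N * (y - 1).natAbs = y.natAbs * ua y (m - 1)) (hq : M + N = q ^ n) :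
    ∃ x : ℤ, x.natAbs = q ∧ x ^ n * (y - 1) = 2 * y ^ m - y - 1 := by
  have hy1 : y - 1 ≠ 0 := by omega
  have hs0 : 0 < (y - 1).natAbs := Int.natAbs_pos.2 hy1
  obtain ⟨M', hM'⟩ : y - 1 ∣ y ^ m - 1 := by simpa using sub_dvd_pow_sub_pow y 1 m
  have hym : y ^ m = y * y ^ (m - 1) := by rw [← pow_succ']; congr 1; omega
  have h1 : M = M'.natAbs := by
    have h2 : (y - 1).natAbs * M = (y - 1).natAbs * M'.natAbs := by
      rw [mul_comm, hM, ua, hM', Int.natAbs_mul]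
    exact Nat.eq_of_mul_eq_mul_left hs0 h2
  have h2 : N = (M' - 1).natAbs := by
    have h3 : (y - 1).natAbs * N = (y - 1).natAbs * (M' - 1).natAbs := by
      rw [mul_comm, hN, ua, ← Int.natAbs_mul, ← Int.natAbs_mul]
      congr 1
      linear_combination hM' - hym
    exact Nat.eq_of_mul_eq_mul_left hs0 h3
  have hodd : Odd n := Nat.odd_iff.2 hn
  rcases lt_or_ge 0 M' with h | h
  · refine ⟨q, Int.natAbs_natCast q, ?_⟩
    have h3 : ((q : ℤ)) ^ n = 2 * M' - 1 := by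
      have : ((q ^ n : ℕ) : ℤ) = 2 * M' - 1 := by rw [← hq]; omega
      push_cast at this
      exact this
    rw [h3]
    linear_combination -2 * hM'
  · refine ⟨-q, by simp, ?_⟩
    have h3 : ((q : ℤ)) ^ n = 1 - 2 * M' := by
      have : ((q ^ n : ℕ) : ℤ) = 1 - 2 * M' := by rw [← hq]; omega
      push_cast at this
      exact this
    rw [hodd.neg_pow, h3]
    linear_combination -2 * hM'

end Cfsg.Agent.R2.Spec.IIA
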