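import Cfsg.Agent.R2.Spec.IIA.Six
import Cfsg.Agent.R2.Spec.E.Main

/-!
# Packets EXO-IIA, EXO-DA (S3435): the rows of the engine (helper4)
-/

set_option autoImplicit false

namespace Cfsg.Agent.R2.Spec.IIA

open Cfsg Cfsg.Agent.H426.LieFam Cfsg.Agent.R2.Spec Cfsg.Agent.R2.Spec.P1 Cfsg.Agent.R2.Spec.F1
open Cfsg.Agent.R2.Spec.E Cfsg.Agent.R2.Spec.X7 Cfsg.Agent.R2.Spec.AA Cfsg.Agent.H420.QR

universe u w

variable {t t' : Fam} {p f v f' : ℕ} {L : Type w} [Group L] [Finite L] {G : Type u} [Group G] [Finite G]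
  {K : Subgroup G} [K.Normal] {S : Subgroup (G ⧸ K)} [S.Normal]

/-- in the exotic family `DA` the second class is isolated -/
theorem da_top (hn5 : 5 ≤ rk t) {i j i' j' w H : ℕ} (D : Duel t p f i j t' v f' i' j' w H S)
    (hE : ExoDA t (p ^ f) t' (v ^ f')) : top t' j' := by
  obtain ⟨n, m, W, rfl, hq, hfam, h3s, h3m, hW, hnum⟩ := hE
  obtain ⟨y, hy⟩ : ∃ y : ℤ, IsAA t' m (v ^ f') y := by
    rcases hfam with ht | ht
    · exact ⟨_, Or.inl ⟨ht, rfl⟩⟩
    · exact ⟨_, Or.inr ⟨ht, rfl⟩⟩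
  have hf1' := D.f'_pos
  have hu2 : 2 ≤ v ^ f' := D.v_prime.two_le.trans (Nat.le_self_pow (by omega) _)
  rw [hy.usg_eq (by omega)] at h3s
  have hjm := hy.mem_iff.1 D.memj'
  have hj3 := D.j'3
  refine hy.top_iff.2 ⟨hj3, ?_⟩
  by_contra hcon
  obtain ⟨g, hg⟩ := hy.tor_one D.is (by omega) (k := j') (by omega) (by omega)
  have hw : w ∣ ua y j' := by rw [dvd_ua_iff, ← hy.cls_eq, D.clsw']
  have h1 := D.ordw g (by rw [hg]; exact hw)
  rw [hg] at h1
  have h3 : 3 ∣ ttor (.ominus n) (p ^ f) j := (h3s.trans (dvd_ua y j')).trans h1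
  obtain ⟨a, b, c, hL, -⟩ := lnum' D.p_prime D.p_ne D.f_pos (by omega) D.pair
  have h4 := hL.copN
  rw [hq] at h3 h4
  have h5 := Nat.Coprime.eq_one_of_dvd h4 h3
  omega

/-- **The exotic family `DA` does not occur.** -/
theorem exo_da_all (h : LS t p f L G) (his : Fam.Is p f L t) (hR : Red G K S) (hF : Frm G K S t' v f')
    (hn5 : 5 ≤ rk t) {i j i' j' w H : ℕ} (D : Duel t p f i j t' v f' i' j' w H S)
    (hE : ExoDA t (p ^ f) t' (v ^ f')) : False :=
  exo_da h his hR hF hn5 D (da_top hn5 D hE) hE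

theorem exDA : RowExo fun t q t' u _ _ _ _ _ _ => ExoDA t q t' u := by
  intro t p f L _ _ G _ _ K _ S _ t' v f' i j i' j' w H H' h his hR hF h5 D _ hE
  exact exo_da_all h his hR hF (by have := five_rk h5; omega) D hE

theorem exIIA : RowExo fun t _ t' u _ _ i' j' H H' => ExoIIA t t' u i' j' H H' := by
  intro t p f L _ _ G _ _ K _ S _ t' v f' i j i' j' w H H' h his hR hF h5 D hN hE
  exact exo_iia_all h his hR hF (by have := five_rk h5; omega) D hN hE

end Cfsg.Agent.R2.Spec.IIA
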